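import Mathlib
import Cfsg.Prelude.Def_OddOrderLocal
import Cfsg.Agent.Lib.Helper70.BG.S1422Aux
import Cfsg.Agent.Lib.Helper64.BG.Fusion
import Cfsg.Agent.Lib.Helper78.BG.S1405Core
import Cfsg.Agent.Lib.Helper9.BG.S1411Core
import Cfsg.Agent.S0058

/-!
Bender–Glauberman Theorem 12.13 (row 1422), helper70: a nonabelian `p`-subgroup of a minimal simple
group of odd order lies in exactly one maximal subgroup.  Conditional on the earlier chain
statements 9.6 (row 1403), 10.1 (row 1404), 10.2 (row 1405), 10.6 (row 1410), 10.7(b) (row 1412),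
12.3 (row 1416) and 12.5 (row 1417), all taken as hypotheses for the same group.
-/

set_option autoImplicit false
set_option linter.style.haveILetI false
set_option linter.unusedSimpArgs false

namespace Cfsg.Agent.Lib.Helper70.BG

open Cfsg Cfsg.Agent.Lib.Helper35.BG Cfsg.Agent.Lib.Helper46

/-- `M` is the unique maximal subgroup containing `N_G(B)`. -/
def UniqN {G : Type*} [Group G] (M B : Subgroup G) : Prop :=
  Subgroup.normalizer (B : Set G) ≤ M ∧
    ∀ L : Subgroup G, IsCoatom L → Subgroup.normalizer (B : Set G) ≤ L → L = M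

/-- The chain facts used, for a fixed prime `p`. -/
structure Hyp (G : Type*) [Group G] (p : ℕ) [Fact p.Prime] : Prop where
  uniq : ∀ K : Subgroup G, K ≠ ⊤ → ¬ Cfsg.RankLE 1 K →
    (¬ Cfsg.RankLE 2 K ∨ ¬ Cfsg.RankLE 2 (Subgroup.centralizer (K : Set G))) →
    Cfsg.InUniqueMaximal K
  fusion : ∀ M : Subgroup G, IsCoatom M → p ∈ Cfsg.sigma M → ∀ X : Subgroup G, IsPGroup p X →
    X ≠ ⊥ → X ≤ M → ∀ g : G, X.map (MulAut.conj g).toMonoidHom ≤ M →
      ∃ m ∈ M, ∃ c ∈ Subgroup.centralizer (X : Set G), g = m * c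
  norm : ∀ M : Subgroup G, IsCoatom M → p ∈ Cfsg.sigma M → ∀ X : Subgroup G, IsPGroup p X →
    X ≠ ⊥ → X ≤ M → Subgroup.normalizer (X : Set G) =
      (M ⊓ Subgroup.normalizer (X : Set G)) ⊔ Subgroup.centralizer (X : Set G)
  nil : ∀ M : Subgroup G, IsCoatom M → Group.IsNilpotent
    ↥((commutator ↥M).map (QuotientGroup.mk' (Cfsg.piCore (Cfsg.alpha M) ↥M)))
  plen : ∀ H : Subgroup G, H ≠ ⊤ → Cfsg.PLengthLE p 1 H
  cp : ∀ S : Sylow p G, Cfsg.PRankLE p 2 (S : Subgroup G) →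
    IsMulCommutative (S : Subgroup G) ∨ ∃ P₁ P₂ : Subgroup G, CP p (S : Subgroup G) P₁ P₂
  cent : ∀ M : Subgroup G, IsCoatom M → ∀ A : Subgroup G, A ≤ M → Cfsg.IsElementaryAbelian p A →
    Nat.card A = p ^ 2 → Subgroup.centralizer (A : Set G) ≤ M
  alt : ∀ M : Subgroup G, IsCoatom M → ∀ A : Subgroup G, A ≤ M → Cfsg.IsElementaryAbelian p A →
    Nat.card A = p ^ 2 → (∀ A₀ : Subgroup G, A₀ ≤ A → Nat.card A₀ = p → ¬ UniqN M A₀) →
    Cfsg.alphaCore M = ⊥
  ab : ∀ M : Subgroup G, IsCoatom M → p ∈ Cfsg.tau2 M → ∀ A : Subgroup G, A ≤ M →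
    Cfsg.IsElementaryAbelian p A → Nat.card A = p ^ 2 →
    ∀ P : Sylow p M, IsMulCommutative (P : Subgroup M)

section

variable {G : Type*} [Group G] [Finite G] {p : ℕ} [hp : Fact p.Prime]

/-- A maximal subgroup containing a nonabelian `p`-subgroup has `p ∈ σ(M)`. -/
theorem mem_sigma_of_nonabelian (hG : Cfsg.IsMinSimpleOddOrder G) (hy : Hyp G p) (hp2 : p ≠ 2)
    {M : Subgroup G} (hM : IsCoatom M) {P : Subgroup G} (hP : IsPGroup p P)
    (hPna : ¬ IsMulCommutative P) (hPM : P ≤ M) : p ∈ Cfsg.sigma M := by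
  have hpp : p.Prime := hp.out
  by_contra hps
  have hr2 : Cfsg.PRankLE p 2 M := by
    by_contra h
    exact hps (Cfsg.Agent.Lib.Helper78.BG.alpha_subset_sigma hG hy.uniq M hM ⟨hpp, h⟩)
  obtain ⟨A, hAP, hAe, hAc⟩ :=
    exists_ea_sq_of_not_isCyclic hp2 hP (not_isCyclic_of_le le_rfl hPna)
  have hr1 : ¬ Cfsg.PRankLE p 1 M := by
    intro h
    rw [Cfsg.Agent.Lib.Helper24.pRankLE_subgroup_iff] at h
    have h1 := h A (hAP.trans hPM) (Cfsg.Agent.Lib.Helper20.BG.ea_comm hAe) hAe.2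
    rw [hAc, pow_one] at h1
    have h2 : p < p ^ 2 := by
      have := hpp.one_lt
      nlinarith
    omega
  have htau : p ∈ Cfsg.tau2 M := ⟨hpp, hps, hr2, hr1⟩
  have hsyl := hy.ab M hM htau A (hAP.trans hPM) hAe hAc
  have h1 : IsPGroup p (P.subgroupOf M) := hP.comap_subtype
  obtain ⟨Q, hQ⟩ := h1.exists_le_sylow
  have hQc := comm_of_isMulCommutative (hsyl Q)
  apply hPna
  apply isMulCommutative_of_comm
  intro a ha b hb
  have h2 := hQc ⟨a, hPM ha⟩ (hQ (Subgroup.mem_subgroupOf.mpr ha)) ⟨b, hPM hb⟩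
    (hQ (Subgroup.mem_subgroupOf.mpr hb))
  exact congrArg Subtype.val h2

/-- BG 12.10(a): for `p ∈ σ(M)`, the normalizer of a noncyclic `p`-subgroup of `M` lies in `M`. -/
theorem normalizer_le_of_not_isCyclic (hy : Hyp G p) (hp2 : p ≠ 2) {M : Subgroup G}
    (hM : IsCoatom M) (hpM : p ∈ Cfsg.sigma M) {Q : Subgroup G} (hQ : IsPGroup p Q) (hQM : Q ≤ M)
    (hnc : ¬ IsCyclic Q) : Subgroup.normalizer (Q : Set G) ≤ M := by
  have hQ1 : Q ≠ ⊥ := by
    rintro rfl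
    exact hnc inferInstance
  obtain ⟨A, hAQ, hAe, hAc⟩ := exists_ea_sq_of_not_isCyclic hp2 hQ hnc
  rw [hy.norm M hM hpM Q hQ hQ1 hQM]
  refine sup_le inf_le_left ?_
  exact (centralizer_anti hAQ).trans (hy.cent M hM A (hAQ.trans hQM) hAe hAc)

/-- Two maximal subgroups containing a nonabelian `p`-subgroup share a Sylow `p`-subgroup of `G`. -/
theorem exists_sylow_le_inf (hy : Hyp G p) (hp2 : p ≠ 2) {M H : Subgroup G}
    (hM : IsCoatom M) (hH : IsCoatom H) (hpM : p ∈ Cfsg.sigma M) (hpH : p ∈ Cfsg.sigma H)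
    {P : Subgroup G} (hP : IsPGroup p P) (hPna : ¬ IsMulCommutative P) (hPM : P ≤ M)
    (hPH : P ≤ H) :
    ∃ S : Sylow p G, P ≤ (S : Subgroup G) ∧ (S : Subgroup G) ≤ M ∧ (S : Subgroup G) ≤ H := by
  obtain ⟨R, hR, hPR⟩ := exists_isSylowIn_ge hP (le_inf hPM hPH)
  have hRp := sylIn_isPGroup hR
  have hRnc : ¬ IsCyclic R := not_isCyclic_of_le hPR hPna
  have hNM := normalizer_le_of_not_isCyclic hy hp2 hM hpM hRp (hR.1.trans inf_le_left) hRnc
  have hNH := normalizer_le_of_not_isCyclic hy hp2 hH hpH hRp (hR.1.trans inf_le_right) hRnc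
  obtain ⟨S, hRS⟩ := hRp.exists_le_sylow
  have hRS' : R = (S : Subgroup G) := by
    by_contra hne
    obtain ⟨x, hxS, hxN, hxR⟩ := exists_mem_normalizer_not_mem S.isPGroup' hRS hne
    have hle : R ⊔ Subgroup.zpowers x ≤ (S : Subgroup G) :=
      sup_le hRS (by rw [Subgroup.zpowers_le]; exact hxS)
    have hp' : IsPGroup p ↥(R ⊔ Subgroup.zpowers x) := S.isPGroup'.to_le hle
    have hin : R ⊔ Subgroup.zpowers x ≤ M ⊓ H :=
      sup_le hR.1 (by rw [Subgroup.zpowers_le]; exact ⟨hNM hxN, hNH hxN⟩)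
    have h1 := sylIn_eq_of_le hR hp' hin le_sup_left
    exact hxR (h1 ▸ Subgroup.mem_sup_right (Subgroup.mem_zpowers x))
  exact ⟨S, hRS' ▸ hPR, hRS' ▸ hR.1.trans inf_le_left, hRS' ▸ hR.1.trans inf_le_right⟩

omit [Finite G] hp in
theorem normalizer_map_conj_le {X B : Subgroup G} {g : G} (hg : g ∈ X)
    (h : Subgroup.normalizer (B : Set G) ≤ X) :
    Subgroup.normalizer ((B.map (MulAut.conj g).toMonoidHom : Subgroup G) : Set G) ≤ X := by
  rw [normalizer_map_conj]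
  calc (Subgroup.normalizer (B : Set G)).map (MulAut.conj g).toMonoidHom
      ≤ X.map (MulAut.conj g).toMonoidHom := Subgroup.map_mono h
    _ = X := map_conj_eq_of_mem hg

/-- If `M_α = 1` then `M'` is nilpotent, so the Sylow `p`-subgroup `S ≤ M'` is normal in `M`. -/
theorem le_normalizer_of_alphaCore_eq_bot (hG : Cfsg.IsMinSimpleOddOrder G) (hy : Hyp G p)
    {X : Subgroup G} (hX : IsCoatom X) (hpX : p ∈ Cfsg.sigma X) (S : Sylow p G)
    (hSX : (S : Subgroup G) ≤ X) (hα : Cfsg.alphaCore X = ⊥) :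
    X ≤ Subgroup.normalizer ((S : Subgroup G) : Set G) := by
  have hSD : (S : Subgroup G) ≤ ⁅X, X⁆ :=
    Cfsg.Agent.Lib.Helper9.BG.sylow_le_commutator_of_sigma hG X p
      (fun Y hY hY1 hYX g hg => hy.fusion X hX hpX Y hY hY1 hYX g hg) S hSX
  have hpi : Cfsg.piCore (Cfsg.alpha X) ↥X = ⊥ := by
    unfold Cfsg.alphaCore at hα
    exact (Subgroup.map_eq_bot_iff_of_injective _ X.subtype_injective).mp hα
  have hnil0 := hy.nil X hX
  have hinj : Function.Injective (QuotientGroup.mk' (Cfsg.piCore (Cfsg.alpha X) ↥X)) := by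
    rw [← MonoidHom.ker_eq_bot_iff, QuotientGroup.ker_mk', hpi]
  have hnil1 : Group.IsNilpotent ↥(commutator ↥X) := by
    have e := (commutator ↥X).equivMapOfInjective _ hinj
    exact Group.nilpotent_of_mulEquiv e.symm
  have hnilD : Group.IsNilpotent ↥(⁅X, X⁆ : Subgroup G) := by
    have e := (commutator ↥X).equivMapOfInjective X.subtype X.subtype_injective
    have h1 := Group.nilpotent_of_mulEquiv e
    rw [Subgroup.map_subtype_commutator] at h1
    exact h1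
  have hStop : IsSylowIn p (S : Subgroup G) ⊤ :=
    ⟨le_top, by rw [Subgroup.card_top]; exact S.card_eq_multiplicity⟩
  have hSD' : IsSylowIn p (S : Subgroup G) ⁅X, X⁆ := sylIn_mono hStop hSD le_top
  obtain ⟨T, hT⟩ := hSD'.exists_sylow
  have hTn : (T : Subgroup ↥(⁅X, X⁆ : Subgroup G)).Normal :=
    Sylow.normal_of_normalizerCondition Group.normalizerCondition_of_isNilpotent T
  intro m hm
  apply Cfsg.Agent.Lib.Helper64.BG.mem_normalizer_of_conj
  intro s hs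
  have hmap : (⁅X, X⁆ : Subgroup G).map (MulAut.conj m).toMonoidHom = ⁅X, X⁆ := by
    rw [Subgroup.map_commutator, map_conj_eq_of_mem hm]
  have hSm : IsSylowIn p ((S : Subgroup G).map (MulAut.conj m).toMonoidHom) ⁅X, X⁆ := by
    have h1 : IsSylowIn p ((S : Subgroup G).map (MulAut.conj m).toMonoidHom) ⊤ :=
      ⟨le_top, by rw [card_map_conj]; exact hStop.2⟩
    refine sylIn_mono h1 ?_ le_top
    calc (S : Subgroup G).map (MulAut.conj m).toMonoidHom
        ≤ (⁅X, X⁆ : Subgroup G).map (MulAut.conj m).toMonoidHom := Subgroup.map_mono hSD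
      _ = ⁅X, X⁆ := hmap
  obtain ⟨T', hT'⟩ := hSm.exists_sylow
  haveI := Sylow.unique_of_normal T hTn
  have hTT' : T' = T := Subsingleton.elim _ _
  have h3 : (S : Subgroup G).map (MulAut.conj m).toMonoidHom = S := by
    rw [← hT', hTT', hT]
  have h2 : m * s * m⁻¹ ∈ (S : Subgroup G).map (MulAut.conj m).toMonoidHom :=
    conj_mem_map_conj m hs
  rwa [h3] at h2

/-- Generation step: if the centralizers of the noncentral elements of `P₁` (intersected with the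
centralizer of `Z = Z(P₁)`) lie in `H`, then `N_G(Z) ≤ H`. -/
theorem normalizer_zOf_le (hG : Cfsg.IsMinSimpleOddOrder G) (hy : Hyp G p)
    (S : Sylow p G) {P₁ P₂ : Subgroup G} (hcp : CP p (S : Subgroup G) P₁ P₂)
    {H : Subgroup G} (hSH : (S : Subgroup G) ≤ H)
    (hNS : Subgroup.normalizer ((S : Subgroup G) : Set G) ≤ H)
    (hcent : ∀ a ∈ P₁, a ∉ zOf P₁ → ∀ k : G, k * a = a * k →
      (∀ z ∈ zOf P₁, k * z = z * k) → k ∈ H) :
    Subgroup.normalizer (zOf P₁ : Set G) ≤ H := by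
  have hpp : p.Prime := hp.out
  have hcz := hcp.card_z
  have hZp : IsPGroup p (zOf P₁) := IsPGroup.of_card (n := 1) (by rw [hcz, pow_one])
  have hZ1 : zOf P₁ ≠ ⊥ := by
    intro h
    rw [h, Subgroup.card_bot] at hcz
    exact hpp.one_lt.ne hcz
  have hZtop : zOf P₁ ≠ ⊤ := Cfsg.Agent.Lib.Helper9.BG.isPGroup_ne_top' hG hZp
  have hNtop : Subgroup.normalizer (zOf P₁ : Set G) ≠ ⊤ := normalizer_ne_top hG hZ1 hZtop
  have hZS : zOf P₁ ≤ (S : Subgroup G) := (zOf_le P₁).trans hcp.le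
  have hSN : (S : Subgroup G) ≤ Subgroup.normalizer (zOf P₁ : Set G) := by
    intro s hs
    apply Cfsg.Agent.Lib.Helper64.BG.mem_normalizer_of_conj
    intro z hz
    have h1 := hcp.z_central hz hs
    have h2 : s * z * s⁻¹ = z := by rw [← h1]; group
    rw [h2]; exact hz
  have hZn : ((zOf P₁).subgroupOf (Subgroup.normalizer (zOf P₁ : Set G))).Normal :=
    Subgroup.normal_in_normalizer
  obtain ⟨N, hNdef⟩ : ∃ N : Subgroup G, N = Subgroup.normalizer (zOf P₁ : Set G) := ⟨_, rfl⟩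
  rw [← hNdef] at hNtop hSN hZn ⊢
  have hpl : Cfsg.PLengthLE p 1 N := hy.plen N hNtop
  obtain ⟨K, hKn, hKc, hfac⟩ := Cfsg.Agent.Lib.Helper64.BG.plen_one_factor hpl (S.subtype hSN)
  have hZnp : IsPGroup p ((zOf P₁).subgroupOf N) := hZp.comap_subtype
  have hKZ := Cfsg.Agent.Lib.Helper64.BG.comm_of_normal_coprime K ((zOf P₁).subgroupOf N)
    hKn hZn hKc hZnp
  have hP₁N : P₁ ≤ N := hcp.le.trans hSN
  have hKH : ∀ k ∈ K, (k : G) ∈ H := by
    obtain ⟨Zn, hZndef⟩ : ∃ Zn : Subgroup N, Zn = (zOf P₁).subgroupOf N := ⟨_, rfl⟩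
    rw [← hZndef] at hZn hZnp hKZ
    haveI := hZn
    have hmemZn : ∀ x : N, x ∈ Zn ↔ (x : G) ∈ zOf P₁ := by
      intro x; rw [hZndef]; exact Subgroup.mem_subgroupOf
    obtain ⟨Ab, hAbdef⟩ : ∃ Ab : Subgroup (N ⧸ Zn),
      Ab = (P₁.subgroupOf N).map (QuotientGroup.mk' Zn) := ⟨_, rfl⟩
    obtain ⟨Kb, hKbdef⟩ : ∃ Kb : Subgroup (N ⧸ Zn), Kb = K.map (QuotientGroup.mk' Zn) := ⟨_, rfl⟩
    have hAbcomm : IsMulCommutative Ab := by
      apply isMulCommutative_of_comm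
      rw [hAbdef]
      rintro _ ⟨a, ha, rfl⟩ _ ⟨b, hb, rfl⟩
      rw [← map_mul, ← map_mul]
      change ((a * b : N) : N ⧸ Zn) = ((b * a : N) : N ⧸ Zn)
      rw [QuotientGroup.eq, hmemZn]
      have ha' : (a : G) ∈ P₁ := Subgroup.mem_subgroupOf.mp ha
      have hb' : (b : G) ∈ P₁ := Subgroup.mem_subgroupOf.mp hb
      have h1 := hcp.comm_mem_z (g := (b : G)⁻¹) (a := (a : G)⁻¹)
        ((S : Subgroup G).inv_mem (hcp.le hb')) (P₁.inv_mem ha')
      simpa [mul_assoc] using h1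
    have hAbnc : ¬ IsCyclic Ab := by
      intro hcyc
      obtain ⟨γ, hγ⟩ := hcyc.exists_generator
      have hγ' : (γ : N ⧸ Zn) ∈ (P₁.subgroupOf N).map (QuotientGroup.mk' Zn) := hAbdef ▸ γ.2
      obtain ⟨c, hc, hcγ⟩ := hγ'
      have hc' : (c : G) ∈ P₁ := Subgroup.mem_subgroupOf.mp hc
      have key : ∀ a ∈ P₁, ∃ n : ℤ, ∃ z ∈ zOf P₁, a = (c : G) ^ n * z := by
        intro a ha
        have hmem : (QuotientGroup.mk' Zn) ⟨a, hP₁N ha⟩ ∈ Ab := by
          rw [hAbdef]; exact ⟨⟨a, hP₁N ha⟩, Subgroup.mem_subgroupOf.mpr ha, rfl⟩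
        obtain ⟨n, hn⟩ := Subgroup.mem_zpowers_iff.mp (hγ ⟨_, hmem⟩)
        have h1 : (QuotientGroup.mk' Zn) (c ^ n) = (QuotientGroup.mk' Zn) ⟨a, hP₁N ha⟩ := by
          rw [map_zpow, hcγ]
          have h0 := congrArg Subtype.val hn
          simpa using h0
        have h2 : (c ^ n)⁻¹ * ⟨a, hP₁N ha⟩ ∈ Zn := QuotientGroup.eq.mp h1
        rw [hmemZn] at h2
        refine ⟨n, ((c : G) ^ n)⁻¹ * a, ?_, by group⟩
        simpa using h2
      apply hcp.nonab
      apply isMulCommutative_of_comm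
      intro a ha b hb
      obtain ⟨n, z, hz, rfl⟩ := key a ha
      obtain ⟨m, w, hw, rfl⟩ := key b hb
      have hcn : (c : G) ^ n ∈ P₁ := Subgroup.zpow_mem _ hc' n
      have hcm : (c : G) ^ m ∈ P₁ := Subgroup.zpow_mem _ hc' m
      have e1 : z * (c : G) ^ m = (c : G) ^ m * z := zOf_comm hz hcm
      have e2 : w * (c : G) ^ n = (c : G) ^ n * w := zOf_comm hw hcn
      have e3 : z * w = w * z := zOf_comm hz (zOf_le P₁ hw)
      have e4 : (c : G) ^ n * (c : G) ^ m = (c : G) ^ m * (c : G) ^ n :=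
        Commute.zpow_zpow_self (c : G) n m
      calc (c : G) ^ n * z * ((c : G) ^ m * w)
          = (c : G) ^ n * (z * (c : G) ^ m) * w := by simp only [mul_assoc]
        _ = (c : G) ^ n * ((c : G) ^ m * z) * w := by rw [e1]
        _ = ((c : G) ^ n * (c : G) ^ m) * (z * w) := by simp only [mul_assoc]
        _ = ((c : G) ^ m * (c : G) ^ n) * (w * z) := by rw [e4, e3]
        _ = (c : G) ^ m * ((c : G) ^ n * w) * z := by simp only [mul_assoc]
        _ = (c : G) ^ m * (w * (c : G) ^ n) * z := by rw [e2]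
        _ = (c : G) ^ m * w * ((c : G) ^ n * z) := by simp only [mul_assoc]
    have hcop : (Nat.card Ab).Coprime (Nat.card Kb) := by
      have h1 : Nat.card Ab ∣ p ^ 3 := by
        rw [hAbdef]
        have h2 := Subgroup.card_map_dvd (H := P₁.subgroupOf N) (QuotientGroup.mk' Zn)
        have h3 : Nat.card (P₁.subgroupOf N) = p ^ 3 := by
          rw [← hcp.card]
          exact Nat.card_congr (Subgroup.subgroupOfEquivOfLe hP₁N).toEquiv
        rwa [h3] at h2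
      have h2 : Nat.card Kb ∣ Nat.card K := by
        rw [hKbdef]; exact Subgroup.card_map_dvd (H := K) (QuotientGroup.mk' Zn)
      have h3 : (p ^ 3).Coprime (Nat.card K) := Nat.Coprime.pow_left 3 hKc.symm
      exact Nat.Coprime.coprime_dvd_left h1 (Nat.Coprime.coprime_dvd_right h2 h3)
    have hKbn : Kb.Normal := by
      rw [hKbdef]; exact hKn.map _ (QuotientGroup.mk'_surjective Zn)
    have hAK : Ab ≤ Subgroup.normalizer (Kb : Set (N ⧸ Zn)) := by
      rw [Subgroup.normalizer_eq_top]; exact le_top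
    haveI := hAbcomm
    have hgen := Cfsg.Agent.S0058.result Ab Kb hAbnc hAK hcop
    have hK0 : K ⊓ Zn = ⊥ := by
      apply disjoint_iff.mp
      apply Subgroup.disjoint_of_coprime_natCard
      obtain ⟨n, hn⟩ := IsPGroup.iff_card.mp hZnp
      rw [hn]; exact Nat.Coprime.pow_right n hKc
    have hle : Kb ≤ (H.subgroupOf N).map (QuotientGroup.mk' Zn) := by
      rw [← hgen]
      apply iSup₂_le
      rintro ab ⟨hab, hab1⟩
      rintro x ⟨hxK, hxc⟩
      rw [hKbdef] at hxK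
      obtain ⟨k, hk, rfl⟩ := hxK
      rw [hAbdef] at hab
      obtain ⟨a, ha, rfl⟩ := hab
      have ha' : (a : G) ∈ P₁ := Subgroup.mem_subgroupOf.mp ha
      have haZ : (a : G) ∉ zOf P₁ := by
        intro h
        apply hab1
        rw [QuotientGroup.mk'_apply, QuotientGroup.eq_one_iff, hmemZn]; exact h
      have hcomm : (QuotientGroup.mk' Zn) k * (QuotientGroup.mk' Zn) a =
          (QuotientGroup.mk' Zn) a * (QuotientGroup.mk' Zn) k := by
        have h0 := Subgroup.mem_centralizer_iff.mp hxc ((QuotientGroup.mk' Zn) a)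
          (Set.mem_singleton _)
        exact h0.symm
      rw [← map_mul, ← map_mul] at hcomm
      have h1 : (k * a)⁻¹ * (a * k) ∈ Zn := QuotientGroup.eq.mp hcomm
      have h2 : (k * a)⁻¹ * (a * k) ∈ K := by
        have e : (k * a)⁻¹ * (a * k) = (a⁻¹ * k⁻¹ * a⁻¹⁻¹) * k := by group
        rw [e]
        exact K.mul_mem (hKn.conj_mem k⁻¹ (K.inv_mem hk) a⁻¹) hk
      have h3 : (k * a)⁻¹ * (a * k) = 1 := by
        have h0 : (k * a)⁻¹ * (a * k) ∈ K ⊓ Zn := ⟨h2, h1⟩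
        rw [hK0] at h0
        exact Subgroup.mem_bot.mp h0
      have h4 : (k : G) * (a : G) = (a : G) * (k : G) := by
        have h5 : k * a = a * k := inv_mul_eq_one.mp h3
        exact congrArg Subtype.val h5
      have hkH : (k : G) ∈ H := hcent a ha' haZ k h4 (fun z hz => by
        have h0 := hKZ k hk ⟨z, hP₁N (zOf_le P₁ hz)⟩ ((hmemZn _).mpr hz)
        exact congrArg Subtype.val h0)
      exact ⟨k, Subgroup.mem_subgroupOf.mpr hkH, rfl⟩
    intro k hk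
    have h1 : (QuotientGroup.mk' Zn) k ∈ Kb := by rw [hKbdef]; exact ⟨k, hk, rfl⟩
    obtain ⟨h, hh, hhk⟩ := hle h1
    have h2 : h⁻¹ * k ∈ Zn := QuotientGroup.eq.mp hhk
    rw [hmemZn] at h2
    have h3 : (k : G) = (h : G) * ((h : G)⁻¹ * (k : G)) := by group
    rw [h3]
    exact H.mul_mem (Subgroup.mem_subgroupOf.mp hh) (hSH (hZS (by simpa using h2)))
  intro x hx
  obtain ⟨k, hk, n, hn, hxkn⟩ := hfac ⟨x, hx⟩
  have h1 : x = (k : G) * (n : G) := congrArg Subtype.val hxkn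
  rw [h1]
  refine H.mul_mem (hKH k hk) (hNS ?_)
  apply Cfsg.Agent.Lib.Helper64.BG.mem_normalizer_of_conj
  intro s hs
  rw [Sylow.coe_subtype] at hn
  have hn' := (Subgroup.mem_normalizer_iff.mp hn ⟨s, hSN hs⟩).mp (Subgroup.mem_subgroupOf.mpr hs)
  exact Subgroup.mem_subgroupOf.mp hn'

/-- The dichotomy from BG 12.3(b): either `X ≤ N_G(S) ≤ Y`, or some subgroup of order `p` of
`⟨a⟩ Z` has its normalizer uniquely in `X`. -/
theorem eq_or_exists_uniqN (hG : Cfsg.IsMinSimpleOddOrder G) (hy : Hyp G p)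
    (S : Sylow p G) {P₁ P₂ : Subgroup G} (hcp : CP p (S : Subgroup G) P₁ P₂)
    {X Y : Subgroup G} (hX : IsCoatom X) (hY : IsCoatom Y) (hpX : p ∈ Cfsg.sigma X)
    (hSX : (S : Subgroup G) ≤ X)
    (hNY : Subgroup.normalizer ((S : Subgroup G) : Set G) ≤ Y)
    {a : G} (ha : a ∈ P₁) (haZ : a ∉ zOf P₁) :
    Y = X ∨ ∃ B : Subgroup G, B ≤ Subgroup.zpowers a ⊔ zOf P₁ ∧ Nat.card B = p ∧ UniqN X B := by
  obtain ⟨hAe, hAc, hAle⟩ := hcp.ea_sup ha haZ
  by_cases h : ∀ A₀ : Subgroup G, A₀ ≤ Subgroup.zpowers a ⊔ zOf P₁ → Nat.card A₀ = p →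
      ¬ UniqN X A₀
  · left
    have hα := hy.alt X hX _ (hAle.trans (hcp.le.trans hSX)) hAe hAc h
    have h1 := le_normalizer_of_alphaCore_eq_bot hG hy hX hpX S hSX hα
    exact (hX.le_iff_eq hY.1).mp (h1.trans hNY)
  · right
    push Not at h
    exact h

/-- If `N_G(Z)` lies in `M` only, then `H = M`. -/
theorem eq_of_uniqN_zOf (hG : Cfsg.IsMinSimpleOddOrder G) (hy : Hyp G p)
    (S : Sylow p G) {P₁ P₂ : Subgroup G} (hcp : CP p (S : Subgroup G) P₁ P₂)
    {M H : Subgroup G} (hM : IsCoatom M) (hH : IsCoatom H) (hpH : p ∈ Cfsg.sigma H)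
    (hSH : (S : Subgroup G) ≤ H)
    (hNM : Subgroup.normalizer ((S : Subgroup G) : Set G) ≤ M)
    (hNH : Subgroup.normalizer ((S : Subgroup G) : Set G) ≤ H)
    (hU : UniqN M (zOf P₁)) : H = M := by
  by_contra hne
  apply hne
  apply hU.2 H hH
  apply normalizer_zOf_le hG hy S hcp hSH hNH
  intro a ha haZ k hka hkz
  rcases eq_or_exists_uniqN hG hy S hcp hH hM hpH hSH hNM ha haZ with h | ⟨B, hB, hBc, hBU⟩
  · exact absurd h.symm hne
  · have hBZ : B ≠ zOf P₁ := by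
      rintro rfl
      exact hne (hBU.2 M hM hU.1).symm
    apply hBU.1
    apply centralizer_le_normalizer' B
    rw [Subgroup.mem_centralizer_iff]
    intro b hb
    have hale : Subgroup.zpowers a ≤ P₁ := by rw [Subgroup.zpowers_le]; exact ha
    have hcomm : ∀ x ∈ Subgroup.zpowers a, ∀ z ∈ zOf P₁, x * z = z * x :=
      fun x hx z hz => (zOf_comm hz (hale hx)).symm
    obtain ⟨x, hx, z, hz, rfl⟩ := mem_sup_of_commute hcomm (hB hb)
    obtain ⟨n, rfl⟩ := Subgroup.mem_zpowers_iff.mp hx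
    have h1 : k * a ^ n = a ^ n * k := Commute.zpow_right (show Commute k a from hka) n
    have h2 : k * z = z * k := hkz z hz
    calc a ^ n * z * k = a ^ n * (z * k) := by simp only [mul_assoc]
      _ = a ^ n * (k * z) := by rw [h2]
      _ = (a ^ n * k) * z := by simp only [mul_assoc]
      _ = (k * a ^ n) * z := by rw [h1]
      _ = k * (a ^ n * z) := by simp only [mul_assoc]

/-- Two maximal subgroups containing the normalizer of a nonabelian Sylow `p`-subgroup of rank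
two coincide. -/
theorem eq_of_cp (hG : Cfsg.IsMinSimpleOddOrder G) (hy : Hyp G p)
    (S : Sylow p G) {P₁ P₂ : Subgroup G} (hcp : CP p (S : Subgroup G) P₁ P₂)
    {M H : Subgroup G} (hM : IsCoatom M) (hH : IsCoatom H) (hpM : p ∈ Cfsg.sigma M)
    (hpH : p ∈ Cfsg.sigma H) (hSM : (S : Subgroup G) ≤ M) (hSH : (S : Subgroup G) ≤ H)
    (hNM : Subgroup.normalizer ((S : Subgroup G) : Set G) ≤ M)
    (hNH : Subgroup.normalizer ((S : Subgroup G) : Set G) ≤ H) : H = M := by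
  by_contra hne
  obtain ⟨a, ha, haZ⟩ := hcp.exists_not_mem_z
  rcases eq_or_exists_uniqN hG hy S hcp hM hH hpM hSM hNH ha haZ with h | ⟨BM, hBM, hBMc, hBMU⟩
  · exact hne h
  rcases eq_or_exists_uniqN hG hy S hcp hH hM hpH hSH hNM ha haZ with h | ⟨BH, hBH, hBHc, hBHU⟩
  · exact hne h.symm
  by_cases h1 : BM = zOf P₁
  · rw [h1] at hBMU
    exact hne (eq_of_uniqN_zOf hG hy S hcp hM hH hpH hSH hNM hNH hBMU)
  by_cases h2 : BH = zOf P₁
  · rw [h2] at hBHU
    exact hne (eq_of_uniqN_zOf hG hy S hcp hH hM hpM hSM hNH hNM hBHU).symm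
  obtain ⟨g₁, hg₁, e₁⟩ := hcp.conj_of_le ha haZ hBM hBMc h1
  obtain ⟨g₂, hg₂, e₂⟩ := hcp.conj_of_le ha haZ hBH hBHc h2
  have e : BH = BM.map (MulAut.conj (g₂ * g₁⁻¹)).toMonoidHom := by
    rw [e₁, e₂, map_conj_mul]
    have e0 : g₂ * g₁⁻¹ * g₁ = g₂ := by group
    rw [e0]
  have h3 : Subgroup.normalizer (BH : Set G) ≤ M := by
    rw [e]
    exact normalizer_map_conj_le
      (hSM ((S : Subgroup G).mul_mem hg₂ ((S : Subgroup G).inv_mem hg₁))) hBMU.1
  exact hne (hBHU.2 M hM h3).symm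

/-- BG Theorem 12.13 from the bundled chain facts. -/
theorem inUniqueMaximal_of_hyp (hG : Cfsg.IsMinSimpleOddOrder G) (hy : Hyp G p)
    (P : Subgroup G) (hP : IsPGroup p P) (hPna : ¬ IsMulCommutative P) :
    Cfsg.InUniqueMaximal P := by
  have hpp : p.Prime := hp.out
  have hp2 : p ≠ 2 := by
    intro h2
    have hP1 : P ≠ ⊥ := by
      rintro rfl
      apply hPna
      apply isMulCommutative_of_comm
      intro a ha b hb
      rw [Subgroup.mem_bot] at ha hb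
      rw [ha, hb]
    obtain ⟨n, hn⟩ := IsPGroup.iff_card.mp hP
    have hn0 : n ≠ 0 := by
      rintro rfl
      rw [pow_zero] at hn
      exact hP1 (Subgroup.eq_bot_of_card_eq P hn)
    have hdvd : p ∣ Nat.card G :=
      (hn ▸ dvd_pow_self p hn0 : p ∣ Nat.card P).trans (Subgroup.card_subgroup_dvd_card P)
    rw [h2] at hdvd
    exact (Nat.not_even_iff_odd.mpr hG.1) (even_iff_two_dvd.mpr hdvd)
  have hPtop : P ≠ ⊤ := Cfsg.Agent.Lib.Helper9.BG.isPGroup_ne_top' hG hP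
  obtain ⟨M, hM, hPM⟩ := exists_coatom_ge hPtop
  refine ⟨M, ⟨hM, hPM⟩, ?_⟩
  rintro H ⟨hH, hPH⟩
  have hpM := mem_sigma_of_nonabelian hG hy hp2 hM hP hPna hPM
  have hpH := mem_sigma_of_nonabelian hG hy hp2 hH hP hPna hPH
  obtain ⟨S, hPS, hSM, hSH⟩ := exists_sylow_le_inf hy hp2 hM hH hpM hpH hP hPna hPM hPH
  have hSnc : ¬ IsCyclic (S : Subgroup G) := not_isCyclic_of_le hPS hPna
  have hNM := normalizer_le_of_not_isCyclic hy hp2 hM hpM S.isPGroup' hSM hSnc
  have hNH := normalizer_le_of_not_isCyclic hy hp2 hH hpH S.isPGroup' hSH hSnc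
  by_cases hrk : Cfsg.PRankLE p 2 (S : Subgroup G)
  · rcases hy.cp S hrk with hab | ⟨P₁, P₂, hcp⟩
    · exact absurd (isMulCommutative_of_comm (fun a ha b hb =>
        comm_of_isMulCommutative hab a (hPS ha) b (hPS hb))) hPna
    · exact eq_of_cp hG hy S hcp hM hH hpM hpH hSM hSH hNM hNH
  · have hSU : Cfsg.InUniqueMaximal (S : Subgroup G) := by
      apply hy.uniq _ (ne_top_of_le_ne_top hM.1 hSM)
      · apply not_rankLE_of_not_pRankLE (p := p)
        intro h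
        exact hrk (pRankLE_mono hpp.pos (by norm_num) h)
      · left
        exact not_rankLE_of_not_pRankLE hrk
    exact hSU.unique ⟨hH, hSH⟩ ⟨hM, hSM⟩

end

/-- **BG Theorem 12.13 (row 1422)**, conditional on the exact statements of rows 1403, 1404, 1405,
1410, 1412, 1416 and 1417 for the same group. -/
theorem s1422_core {G : Type*} [Group G] [Finite G] (hG : Cfsg.IsMinSimpleOddOrder G)
    (h1403 : ∀ K : Subgroup G, K ≠ ⊤ → ¬ Cfsg.RankLE 1 K →
      (¬ Cfsg.RankLE 2 K ∨ ¬ Cfsg.RankLE 2 (Subgroup.centralizer (K : Set G))) →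
      Cfsg.InUniqueMaximal K)
    (h1404 : ∀ (M : Subgroup G), IsCoatom M → ∀ (p : ℕ) [Fact p.Prime], p ∈ Cfsg.sigma M →
      ∀ (X : Subgroup G), IsPGroup p X → X ≠ ⊥ → X ≤ M →
      (∀ g : G, X.map (MulAut.conj g).toMonoidHom ≤ M →
          ∃ m ∈ M, ∃ c ∈ Subgroup.centralizer (X : Set G), g = m * c) ∧
        Subgroup.normalizer (X : Set G) =
          (M ⊓ Subgroup.normalizer (X : Set G)) ⊔ Subgroup.centralizer (X : Set G))
    (h1405 : ∀ (M : Subgroup G), IsCoatom M →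
      Cfsg.IsPiHallOf (Cfsg.alpha M) (Cfsg.alphaCore M) M ∧
      Cfsg.IsPiHall (Cfsg.alpha M) (Cfsg.alphaCore M) ∧
      Cfsg.alphaCore M ≤ Cfsg.sigmaCore M ∧
      Cfsg.RankLE 2 (↥M ⧸ Cfsg.piCore (Cfsg.alpha M) ↥M) ∧
      Group.IsNilpotent
        ↥((commutator ↥M).map (QuotientGroup.mk' (Cfsg.piCore (Cfsg.alpha M) ↥M))))
    (h1410 : ∀ (p : ℕ) [Fact p.Prime] (H : Subgroup G), H ≠ ⊤ → Cfsg.PLengthLE p 1 H)
    (h1412 : ∀ (p : ℕ) [Fact p.Prime] (P : Sylow p G), Cfsg.PRankLE p 2 (P : Subgroup G) →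
      IsMulCommutative (P : Subgroup G) ∨ ∃ P₁ P₂ : Subgroup G, P₁ ⊔ P₂ = (P : Subgroup G) ∧
        (∀ a ∈ P₁, ∀ b ∈ P₂, a * b = b * a) ∧
        ¬ IsMulCommutative P₁ ∧ Nat.card P₁ = p ^ 3 ∧ Monoid.exponent P₁ = p ∧ IsCyclic P₂ ∧
        Subgroup.closure {x : G | x ∈ P₂ ∧ x ^ p = 1} = P₁ ⊓ Subgroup.centralizer (P₁ : Set G))
    (h1416 : ∀ (M : Subgroup G), IsCoatom M → ∀ (p : ℕ) [Fact p.Prime] (A : Subgroup G),
      (A ≤ M ∧ Cfsg.IsElementaryAbelian p A ∧ Nat.card A = p ^ 2) →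
      Subgroup.centralizer (A : Set G) ≤ M ∧
      ((∀ A₀ : Subgroup G, A₀ ≤ A → Nat.card A₀ = p →
          ¬ (Subgroup.normalizer (A₀ : Set G) ≤ M ∧ ∀ L : Subgroup G, IsCoatom L →
            Subgroup.normalizer (A₀ : Set G) ≤ L → L = M)) →
        p ∈ Cfsg.sigma M ∧ Cfsg.alphaCore M = ⊥ ∧ Group.IsNilpotent (Cfsg.sigmaCore M)))
    (h1417 : ∀ (M : Subgroup G), IsCoatom M → ∀ (p : ℕ) [Fact p.Prime], p ∈ Cfsg.tau2 M →
      ∀ (A : Subgroup G), (A ≤ M ∧ Cfsg.IsElementaryAbelian p A ∧ Nat.card A = p ^ 2) →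
      Group.IsNilpotent (Cfsg.sigmaCore M) ∧
      (∀ P : Sylow p M, IsMulCommutative (P : Subgroup M) ∧
        (A ≤ (P : Subgroup M).map M.subtype →
          (∀ x ∈ (P : Subgroup M).map M.subtype, x ^ p = 1 ↔ x ∈ A) ∧
          ¬ Subgroup.normalizer ((((P : Subgroup M).map M.subtype : Subgroup G)) : Set G) ≤ M)) ∧
      M ≤ Subgroup.normalizer ((Cfsg.sigmaCore M ⊔ A : Subgroup G) : Set G) ∧
      Cfsg.sigmaCore M ⊓ Subgroup.centralizer (A : Set G) = ⊥ ∧
      (∀ Mstar : Subgroup G, IsCoatom Mstar → Mstar ≠ M → A ≤ Mstar →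
        Cfsg.sigmaCore M ⊓ Mstar = ⊥) ∧
      ∃ A₁ : Subgroup G, A₁ ≤ A ∧ Nat.card A₁ = p ∧
        Cfsg.sigmaCore M ⊓ Subgroup.centralizer (A₁ : Set G) = ⊥)
    (p : ℕ) [Fact p.Prime] (P : Subgroup G) (hP : IsPGroup p P) (hPna : ¬ IsMulCommutative P) :
    Cfsg.InUniqueMaximal P := by
  have hy : Hyp G p :=
    { uniq := h1403
      fusion := fun M hM hpM X hX hX1 hXM => (h1404 M hM p hpM X hX hX1 hXM).1
      norm := fun M hM hpM X hX hX1 hXM => (h1404 M hM p hpM X hX hX1 hXM).2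
      nil := fun M hM => (h1405 M hM).2.2.2.2
      plen := fun H hH => h1410 p H hH
      cp := fun S hrk => by
        rcases h1412 p S hrk with h | ⟨P₁, P₂, h1, h2, h3, h4, h5, -, h7⟩
        · exact Or.inl h
        · exact Or.inr ⟨P₁, P₂, ⟨h1, h2, h3, h4, h5, h7⟩⟩
      cent := fun M hM A hAM hAe hAc => (h1416 M hM p A ⟨hAM, hAe, hAc⟩).1
      alt := fun M hM A hAM hAe hAc h => ((h1416 M hM p A ⟨hAM, hAe, hAc⟩).2 h).2.1
      ab := fun M hM hp A hAM hAe hAc Q => ((h1417 M hM p hp A ⟨hAM, hAe, hAc⟩).2.1 Q).1 }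
  exact inUniqueMaximal_of_hyp hG hy P hP hPna

end Cfsg.Agent.Lib.Helper70.BG
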