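import Mathlib
import Cfsg.Agent.Lib.Helper70.BG.S1421Defs
import Cfsg.Agent.Lib.Helper76.BG.S1420Core
import Cfsg.Agent.Lib.Helper78.BG.S1405Core
import Cfsg.Agent.Lib.Helper9.BG.S1411Core
import Cfsg.Agent.Lib.Helper62.BG.S1362Core

/-!
# S1421 (BG 12.12): glue lemmas (helper70)
-/

set_option autoImplicit false

namespace Cfsg.Agent.Lib.Helper70.BG21

open Cfsg

universe u

variable {G : Type u} [Group G]

/-- `e` is regular for `M`: `M_σ ∩ C_G(e) = 1`. -/
abbrev Reg (M : Subgroup G) (e : G) : Prop :=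
  Cfsg.sigmaCore M ⊓ Subgroup.centralizer ({e} : Set G) = ⊥

theorem centralizer_singleton_le_pow (e : G) (k : ℕ) :
    Subgroup.centralizer ({e} : Set G) ≤ Subgroup.centralizer ({e ^ k} : Set G) := by
  intro x hx
  rw [Subgroup.mem_centralizer_iff] at hx ⊢
  intro y hy
  rw [Set.mem_singleton_iff] at hy
  subst hy
  have h1 : Commute e x := hx e rfl
  exact (h1.pow_left k).eq

theorem not_reg_pow (M : Subgroup G) (e : G) (k : ℕ) (h : ¬ Reg M e) : ¬ Reg M (e ^ k) := by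
  intro h2
  apply h
  have h3 : Cfsg.sigmaCore M ⊓ Subgroup.centralizer ({e} : Set G) ≤
      Cfsg.sigmaCore M ⊓ Subgroup.centralizer ({e ^ k} : Set G) :=
    inf_le_inf_left _ (centralizer_singleton_le_pow e k)
  exact eq_bot_iff.mpr (h2 ▸ h3)

theorem centralizer_zpowers_eq (e : G) :
    Subgroup.centralizer ((Subgroup.zpowers e : Subgroup G) : Set G) =
      Subgroup.centralizer ({e} : Set G) := by
  apply le_antisymm
  · exact Subgroup.centralizer_le (by
      intro x hx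
      rw [Set.mem_singleton_iff] at hx
      subst hx
      exact Subgroup.mem_zpowers x)
  · intro x hx
    rw [Subgroup.mem_centralizer_iff] at hx ⊢
    intro y hy
    obtain ⟨n, rfl⟩ := Subgroup.mem_zpowers_iff.mp hy
    have h1 : Commute e x := hx e rfl
    exact (h1.zpow_left n).eq

theorem tau_cases (M : Subgroup G) {q : ℕ} (hq : q.Prime) (hqσ : q ∉ sigma M)
    (hqM : q ∣ Nat.card M) (hr2 : PRankLE q 2 M) : q ∈ tau1 M ∪ tau3 M ∨ q ∈ tau2 M := by
  by_cases hr1 : PRankLE q 1 M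
  · left
    by_cases hd : q ∣ Nat.card ↥⁅M, M⁆
    · exact Or.inr ⟨hq, hqσ, hd, hr1⟩
    · exact Or.inl ⟨hq, hqσ, hqM, hd, hr1⟩
  · exact Or.inr ⟨hq, hqσ, hr2, hr1⟩

theorem sing_tau2 [Finite G] (M E : Subgroup G)
    (h : ∀ e ∈ E, e ≠ 1 →
      (∀ p : ℕ, p.Prime → p ∣ orderOf e → p ∈ Cfsg.tau1 M ∪ Cfsg.tau3 M) → Reg M e)
    (htau : ∀ q : ℕ, q.Prime → q ∣ Nat.card E → q ∈ tau1 M ∪ tau3 M ∨ q ∈ tau2 M)
    (e : G) (he : e ∈ E) (hs : ¬ Reg M e) (p : ℕ) (hp : p.Prime)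
    (hpe : p ∣ orderOf e) : p ∈ tau2 M := by
  have hpE : p ∣ Nat.card E := hpe.trans (Subgroup.orderOf_dvd_natCard E he)
  rcases htau p hp hpE with h13 | h2
  · exfalso
    have ho : orderOf (e ^ (orderOf e / p)) = p :=
      orderOf_pow_orderOf_div (orderOf_pos e).ne' hpe
    have he' : e ^ (orderOf e / p) ∈ E := E.pow_mem he _
    have hne : e ^ (orderOf e / p) ≠ 1 := by
      intro h1
      rw [h1, orderOf_one] at ho
      exact hp.ne_one ho.symm
    have hreg := h _ he' hne (fun r hr hdvd => by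
      rw [ho] at hdvd
      rw [(Nat.prime_dvd_prime_iff_eq hr hp).mp hdvd]
      exact h13)
    exact not_reg_pow M e _ hs hreg
  · exact h2

/-- An elementary abelian subgroup of order `p²` inside the complement `E`, for `p ∈ τ₂(M)`. -/
theorem exists_ea_in_compl [Finite G] (hG : IsMinSimpleOddOrder G) (M : Subgroup G)
    (hM : IsCoatom M) (hHall : IsPiHallOf (sigma M) (sigmaCore M) M) (E : Subgroup G)
    (hE : IsComplIn E (sigmaCore M) M) (p : ℕ) [Fact p.Prime] (hp : p ∈ tau2 M) :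
    ∃ A : Subgroup G, A ≤ E ∧ IsElementaryAbelian p A ∧ Nat.card A = p ^ 2 := by
  obtain ⟨B, hBM, hBea, hBc⟩ :=
    Cfsg.Agent.Lib.Helper76.BG.exists_ea_sq_of_not_rank_one M p hp.2.2.2
  have hBσ : ∀ q : ℕ, q.Prime → q ∣ Nat.card B → q ∉ sigma M := by
    intro q hq hdvd
    rw [hBc] at hdvd
    have : q = p := (Nat.prime_dvd_prime_iff_eq hq Fact.out).mp (hq.dvd_of_dvd_pow hdvd)
    rw [this]
    exact hp.2.1
  obtain ⟨E', hE', hBE'⟩ :=
    Cfsg.Agent.Lib.Helper76.BG.exists_compl_ge hG M hM hHall B hBM hBσ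
  obtain ⟨g, -, hg⟩ :=
    Cfsg.Agent.Lib.Helper76.BG.exists_conj_le_compl hG M hM hHall E' E hE' hE
  refine ⟨B.map (MulAut.conj g).toMonoidHom, ?_, ?_, ?_⟩
  · rintro _ ⟨b, hb, rfl⟩
    exact hg b (hBE' hb)
  · exact Cfsg.Agent.Lib.Helper76.BG.ea_map_conj hBea g
  · rw [Subgroup.card_map_of_injective (f := (MulAut.conj g).toMonoidHom)
      (MulAut.conj g).injective]
    exact hBc

/-- A `p`-element normalizing a Sylow `p`-subgroup lies in it. -/
theorem mem_sylow_of_normalizes [Finite G] {p : ℕ} [Fact p.Prime] (S : Sylow p G) (x : G)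
    (hx : x ∈ Subgroup.normalizer ((S : Subgroup G) : Set G)) (hxp : ∃ k : ℕ, x ^ p ^ k = 1) :
    x ∈ (S : Subgroup G) := by
  obtain ⟨k, hk⟩ := hxp
  have hz : IsPGroup p (Subgroup.zpowers x) := by
    obtain ⟨j, -, hj⟩ := (Nat.dvd_prime_pow Fact.out).mp (orderOf_dvd_of_pow_eq_one hk)
    exact IsPGroup.of_card (n := j) (by rw [Nat.card_zpowers, hj])
  have h1 : IsPGroup p (Subgroup.zpowers x ⊔ (S : Subgroup G) : Subgroup G) :=
    IsPGroup.to_sup_of_normal_right' hz S.isPGroup' (Subgroup.zpowers_le.mpr hx)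
  have h2 := S.is_maximal' h1 le_sup_right
  have h3 : x ∈ (Subgroup.zpowers x ⊔ (S : Subgroup G) : Subgroup G) :=
    (le_sup_left : Subgroup.zpowers x ≤ _) (Subgroup.mem_zpowers x)
  rw [h2] at h3
  exact h3

/-- If one Sylow `p`-subgroup is commutative, all are. -/
theorem sylow_comm_all [Finite G] {p : ℕ} [Fact p.Prime] (S S' : Sylow p G)
    (hS : IsMulCommutative (S : Subgroup G)) : IsMulCommutative (S' : Subgroup G) := by
  obtain ⟨g, hg⟩ := MulAction.exists_smul_eq G S S'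
  rw [isMulCommutative_iff] at hS ⊢
  rintro ⟨a, ha⟩ ⟨b, hb⟩
  apply Subtype.ext
  show a * b = b * a
  rw [← hg, Sylow.coe_subgroup_smul, Subgroup.mem_smul_pointwise_iff_exists] at ha hb
  obtain ⟨a', ha', rfl⟩ := ha
  obtain ⟨b', hb', rfl⟩ := hb
  have h1 := congrArg (fun t : (S : Subgroup G) => (t : G)) (hS ⟨a', ha'⟩ ⟨b', hb'⟩)
  simp only [Subgroup.coe_mul] at h1
  simp only [MulAut.smul_def, MulAut.conj_apply]
  calc g * a' * g⁻¹ * (g * b' * g⁻¹) = g * (a' * b') * g⁻¹ := by group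
    _ = g * (b' * a') * g⁻¹ := by rw [h1]
    _ = g * b' * g⁻¹ * (g * a' * g⁻¹) := by group

/-- If the Sylow `p`-subgroups of `M` are commutative, so is every `p`-subgroup of `M`. -/
theorem pgroup_comm_of_sylow [Finite G] {p : ℕ} [Fact p.Prime] (M : Subgroup G)
    (hS : ∀ P : Sylow p M, IsMulCommutative (P : Subgroup M)) (Q : Subgroup G) (hQM : Q ≤ M)
    (hQ : IsPGroup p Q) : IsMulCommutative Q := by
  have hQ' : IsPGroup p (Q.subgroupOf M) := by
    have := hQ.comap_of_injective M.subtype M.subtype_injective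
    exact this
  obtain ⟨P, hP⟩ := hQ'.exists_le_sylow
  have hc := hS P
  rw [isMulCommutative_iff] at hc ⊢
  rintro ⟨a, ha⟩ ⟨b, hb⟩
  apply Subtype.ext
  show a * b = b * a
  have ha' : (⟨a, hQM ha⟩ : M) ∈ (P : Subgroup M) := hP (Subgroup.mem_subgroupOf.mpr ha)
  have hb' : (⟨b, hQM hb⟩ : M) ∈ (P : Subgroup M) := hP (Subgroup.mem_subgroupOf.mpr hb)
  have h1 := congrArg (fun t : (P : Subgroup M) => ((t : M) : G)) (hc ⟨_, ha'⟩ ⟨_, hb'⟩)
  simpa using h1

end Cfsg.Agent.Lib.Helper70.BG21
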