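import Mathlib
import Cfsg.Agent.Lib.Helper70.BG.S1421Glue
import Cfsg.Agent.Lib.Helper35.BG.Basic
import Cfsg.Agent.Lib.Helper66.BG.S1367Util

/-!
# S1421 (BG 12.12): package `LemGlob`, the global step (helper70)
-/

set_option autoImplicit false
set_option linter.style.haveILetI false
set_option linter.unusedSectionVars false

namespace Cfsg.Agent.Lib.Helper70.BG21

open Cfsg Cfsg.Agent.Lib.Helper46 Cfsg.Agent.Lib.Helper35.BG

universe u

variable {G : Type u} [Group G] [Finite G]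

theorem zpowers_ne_top70 (hG : Cfsg.IsMinSimpleOddOrder G) (x : G) :
    Subgroup.zpowers x ≠ ⊤ := by
  intro htop
  apply hG.2.2.1
  refine ⟨⟨fun a b => ?_⟩⟩
  have ha : a ∈ Subgroup.zpowers x := htop ▸ Subgroup.mem_top a
  have hb : b ∈ Subgroup.zpowers x := htop ▸ Subgroup.mem_top b
  obtain ⟨m, rfl⟩ := Subgroup.mem_zpowers_iff.mp ha
  obtain ⟨n, rfl⟩ := Subgroup.mem_zpowers_iff.mp hb
  rw [← zpow_add, ← zpow_add, add_comm]

/-- In a subgroup of `p`-rank at most one, two commuting elements of order `p` generate the same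
subgroup (copy of `Helper66.BG.mem_zpowers_of_pRankLE_one` with light imports). -/
theorem mem_zpowers_of_rank_one70 {H : Subgroup G} {p : ℕ} (hp : p.Prime)
    (hr : PRankLE p 1 H) {a b : G} (ha : a ∈ H) (hb : b ∈ H) (hab : a * b = b * a)
    (hoa : orderOf a = p) (hob : orderOf b = p) : b ∈ Subgroup.zpowers a := by
  by_contra hb'
  have h1 : Nat.card (Subgroup.zpowers a) = p := by rw [Nat.card_zpowers, hoa]
  have h2 : Nat.card (Subgroup.zpowers b) = p := by rw [Nat.card_zpowers, hob]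
  have hne : Subgroup.zpowers a ≠ Subgroup.zpowers b := by
    intro h
    exact hb' (h ▸ Subgroup.mem_zpowers b)
  have hc : ∀ x ∈ Subgroup.zpowers a, ∀ y ∈ Subgroup.zpowers b, x * y = y * x := by
    intro x hx y hy
    obtain ⟨m, rfl⟩ := Subgroup.mem_zpowers_iff.mp hx
    obtain ⟨n, rfl⟩ := Subgroup.mem_zpowers_iff.mp hy
    have : Commute a b := hab
    exact ((this.zpow_left m).zpow_right n).eq
  obtain ⟨hea, hcard⟩ := Cfsg.Agent.Lib.Helper66.BG.ea_sup_of_card_prime hp h1 h2 hne hc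
  rw [Cfsg.Agent.Lib.Helper24.pRankLE_subgroup_iff] at hr
  have hle : Subgroup.zpowers a ⊔ Subgroup.zpowers b ≤ H :=
    sup_le ((Subgroup.zpowers_le).mpr ha) ((Subgroup.zpowers_le).mpr hb)
  have := hr _ hle (fun x hx y hy => congrArg Subtype.val (hea.1.is_comm.comm ⟨x, hx⟩ ⟨y, hy⟩)) hea.2
  rw [hcard, pow_one] at this
  nlinarith [hp.two_le]

theorem orderOf_conj70 (g x : G) : orderOf (g * x * g⁻¹) = orderOf x := by
  have := MulEquiv.orderOf_eq (MulAut.conj g) x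
  rwa [MulAut.conj_apply] at this

/-- In a `q`-subgroup `Q` of a group `H` of `q`-rank one, all elements of order `q` of `Q` lie in
one subgroup of order `q`. -/
theorem mem_zpowers_of_qgroup_rank_one {q : ℕ} [Fact q.Prime] {H Q : Subgroup G}
    (hr : PRankLE q 1 H) (hQH : Q ≤ H) (hQ : IsPGroup q Q) {x₁ w : G} (hx₁ : x₁ ∈ Q)
    (hw : w ∈ Q) (ho₁ : orderOf x₁ = q) (how : orderOf w = q) : w ∈ Subgroup.zpowers x₁ := by
  have hqp : q.Prime := Fact.out
  have hx₁1 : x₁ ≠ 1 := by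
    rintro rfl
    rw [orderOf_one] at ho₁
    exact hqp.ne_one ho₁.symm
  haveI : Nontrivial Q := ⟨⟨⟨x₁, hx₁⟩, 1, fun h => hx₁1 (congrArg Subtype.val h)⟩⟩
  haveI := hQ.center_nontrivial
  obtain ⟨⟨c, hc⟩, hc1⟩ := exists_ne (1 : Subgroup.center Q)
  have hcne : c ≠ 1 := fun h => hc1 (Subtype.ext h)
  obtain ⟨j, hj⟩ := (IsPGroup.iff_orderOf.mp hQ) c
  have hj0 : j ≠ 0 := by
    rintro rfl
    rw [pow_zero, orderOf_eq_one_iff] at hj
    exact hcne hj
  have hqdvd : q ∣ orderOf c := by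
    rw [hj]
    exact dvd_pow_self q hj0
  obtain ⟨c', hc'def⟩ : ∃ c' : G, c' = ((c ^ (orderOf c / q) : Q) : G) := ⟨_, rfl⟩
  have hc'o : orderOf c' = q := by
    rw [hc'def, Subgroup.orderOf_coe]
    exact orderOf_pow_orderOf_div (orderOf_pos c).ne' hqdvd
  have hc'Q : c' ∈ Q := by
    rw [hc'def]
    exact (c ^ (orderOf c / q)).2
  have hc'comm : ∀ u ∈ Q, c' * u = u * c' := by
    intro u hu
    have h1 := (Subgroup.mem_center_iff.mp hc) ⟨u, hu⟩
    have h2 : u * (c : G) = (c : G) * u := congrArg Subtype.val h1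
    have h3 : Commute (c : G) u := h2.symm
    rw [hc'def, Subgroup.coe_pow]
    exact (h3.pow_left _).eq
  have hx₁c' : x₁ ∈ Subgroup.zpowers c' :=
    mem_zpowers_of_rank_one70 hqp hr (hQH hc'Q) (hQH hx₁) (hc'comm x₁ hx₁) hc'o ho₁
  obtain ⟨n, hn⟩ := Subgroup.mem_zpowers_iff.mp hx₁c'
  have hcomm : x₁ * w = w * x₁ := by
    rw [← hn]
    have h3 : Commute c' w := hc'comm w hw
    exact (h3.zpow_left n).eq
  exact mem_zpowers_of_rank_one70 hqp hr (hQH hx₁) (hQH hw) hcomm ho₁ how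

/-- Frattini step: `N_G(A) ≤ L` when `C_G(A) ≤ L` and `N_G(⟨x₁⟩) ≤ L` for `x₁ ∈ C_G(A)` of prime
order `q`, the group `C_G(A)` having `q`-rank one. -/
theorem normalizer_le_of_global {q : ℕ} [Fact q.Prime] (M E A L : Subgroup G)
    (hq1 : PRankLE q 1 M) (hEM : E ≤ M)
    (hCE : Subgroup.centralizer (A : Set G) ≤ E) (hCL : Subgroup.centralizer (A : Set G) ≤ L)
    (x₁ : G) (hx₁ : x₁ ∈ Subgroup.centralizer (A : Set G)) (ho : orderOf x₁ = q)
    (hNL : Subgroup.normalizer ((Subgroup.zpowers x₁ : Subgroup G) : Set G) ≤ L) :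
    Subgroup.normalizer (A : Set G) ≤ L := by
  intro g hg
  obtain ⟨C, hC⟩ : ∃ C : Subgroup G, C = Subgroup.centralizer (A : Set G) := ⟨_, rfl⟩
  rw [← hC] at hCE hCL hx₁
  have hgx : g * x₁ * g⁻¹ ∈ C := by
    rw [hC, Subgroup.mem_centralizer_iff]
    intro a ha
    have ha' : g⁻¹ * a * g ∈ A := by
      have := (Subgroup.mem_normalizer_iff.mp (Subgroup.inv_mem _ hg) a).mp ha
      simpa using this
    have h1 := (Subgroup.mem_centralizer_iff.mp (hC ▸ hx₁)) _ ha'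
    calc a * (g * x₁ * g⁻¹) = g * ((g⁻¹ * a * g) * x₁) * g⁻¹ := by group
      _ = g * (x₁ * (g⁻¹ * a * g)) * g⁻¹ := by rw [h1]
      _ = g * x₁ * g⁻¹ * a := by group
  have hZ : IsPGroup q (Subgroup.zpowers x₁) :=
    IsPGroup.of_card (n := 1) (by rw [Nat.card_zpowers, ho, pow_one])
  obtain ⟨Q₀, hQ₀, hxQ₀⟩ := exists_isSylowIn_ge hZ (Subgroup.zpowers_le.mpr hx₁)
  have hZ' : IsPGroup q (Subgroup.zpowers (g * x₁ * g⁻¹)) :=
    IsPGroup.of_card (n := 1) (by rw [Nat.card_zpowers, orderOf_conj70, ho, pow_one])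
  obtain ⟨Q₁, hQ₁, hxQ₁⟩ := exists_isSylowIn_ge hZ' (Subgroup.zpowers_le.mpr hgx)
  obtain ⟨c, hcC, hQeq⟩ := hQ₁.exists_conj hQ₀
  have hw : c * (g * x₁ * g⁻¹) * c⁻¹ ∈ Q₀ := by
    rw [hQeq]
    exact conj_mem_map_conj c (hxQ₁ (Subgroup.mem_zpowers _))
  have how : orderOf (c * (g * x₁ * g⁻¹) * c⁻¹) = q := by
    rw [orderOf_conj70, orderOf_conj70, ho]
  have hmem := mem_zpowers_of_qgroup_rank_one hq1 (hQ₀.1.trans (hCE.trans hEM))
    (sylIn_isPGroup hQ₀) (hxQ₀ (Subgroup.mem_zpowers _)) hw ho how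
  have hcg : c * g ∈ Subgroup.normalizer ((Subgroup.zpowers x₁ : Subgroup G) : Set G) := by
    apply Subgroup.mem_normalizer_fintype
    intro n hn
    obtain ⟨k, rfl⟩ := Subgroup.mem_zpowers_iff.mp hn
    have e : c * g * x₁ ^ k * (c * g)⁻¹ = (c * (g * x₁ * g⁻¹) * c⁻¹) ^ k := by
      rw [conj_zpow, conj_zpow]
      group
    rw [e]
    exact Subgroup.zpow_mem _ hmem k
  have h1 := hNL hcg
  have hcL : c ∈ L := hCL hcC
  have e : g = c⁻¹ * (c * g) := by group
  rw [e]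
  exact L.mul_mem (L.inv_mem hcL) h1

/-- Elements of a normal subgroup `K` of index a power of `p` contain all `q`-elements, `q ≠ p`
(stated with a Sylow complement). -/
theorem mem_of_complement_sylow {H : Type*} [Group H] [Finite H] {p q : ℕ} [Fact p.Prime]
    [Fact q.Prime] (hne : q ≠ p) (Ps : Sylow p H) (K : Subgroup H) [K.Normal]
    (hK : K.IsComplement' (Ps : Subgroup H)) (z : H) (hz : ∃ k : ℕ, z ^ q ^ k = 1) : z ∈ K := by
  obtain ⟨k, hk⟩ := hz
  have hidx : K.index = Nat.card (Ps : Subgroup H) := hK.symm.index_eq_card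
  have h1 : z ^ K.index ∈ K := Subgroup.pow_index_mem K z
  obtain ⟨j, -, hj⟩ := (Nat.dvd_prime_pow (Fact.out : q.Prime)).mp (orderOf_dvd_of_pow_eq_one hk)
  have hcop : (K.index).Coprime (orderOf z) := by
    rw [hidx, Ps.card_eq_multiplicity, hj]
    exact Nat.Coprime.pow _ _ ((Nat.coprime_primes Fact.out Fact.out).mpr (Ne.symm hne))
  obtain ⟨m, hm⟩ := exists_pow_eq_self_of_coprime hcop
  rw [← hm]
  exact K.pow_mem h1 m

/-- **Package Glob.** -/
theorem lemGlob : LemGlob.{u} := by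
  intro G _ _ hG h1350 h1408 h1409 h1414 h1416 h1417 M hM E hE p _ hp A P ctx hnP hcP
  intro q _ hq x₁ z hx₁E hzE ho hx₁C hzx hzq hzC
  have hpp : p.Prime := Fact.out
  have hqp : q.Prime := Fact.out
  have hq1 : PRankLE q 1 M := by
    rcases hq with h | h
    · exact h.2.2.2.2
    · exact h.2.2.2
  have hne : q ≠ p := by
    rintro rfl
    exact hp.2.2.2 hq1
  have hx₁1 : x₁ ≠ 1 := by
    rintro rfl
    rw [orderOf_one] at ho
    exact hqp.ne_one ho.symm
  obtain ⟨X₁, hX₁⟩ : ∃ X₁ : Subgroup G, X₁ = Subgroup.zpowers x₁ := ⟨_, rfl⟩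
  have hX₁c : Nat.card X₁ = q := by rw [hX₁, Nat.card_zpowers, ho]
  have hX₁bot : X₁ ≠ ⊥ := fun h => hx₁1 (Subgroup.zpowers_eq_bot.mp (hX₁ ▸ h))
  have hX₁top : X₁ ≠ ⊤ := hX₁ ▸ zpowers_ne_top70 hG x₁
  obtain ⟨L, hL, hNL⟩ := exists_coatom_ge (normalizer_ne_top hG hX₁bot hX₁top)
  have hCx : Subgroup.centralizer ({x₁} : Set G) ≤ L := by
    rw [← centralizer_zpowers_eq, ← hX₁]
    exact (centralizer_le_normalizer' _).trans hNL
  have hx₁P : x₁ ∈ Subgroup.centralizer (P : Set G) := hcP hx₁C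
  have hPL : P ≤ L := by
    intro y hy
    apply hCx
    rw [Subgroup.mem_centralizer_iff]
    intro t ht
    rw [Set.mem_singleton_iff] at ht
    subst ht
    exact ((Subgroup.mem_centralizer_iff.mp hx₁P) y hy).symm
  have hzL : z ∈ L := by
    apply hCx
    rw [Subgroup.mem_centralizer_iff]
    intro t ht
    rw [Set.mem_singleton_iff] at ht
    subst ht
    exact hzx.symm
  have hAL : A ≤ L := ctx.A_le.trans hPL
  have hCL : Subgroup.centralizer (A : Set G) ≤ L :=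
    (h1416 L hL p A ⟨hAL, ctx.ea, ctx.cardA⟩).1
  have hNAL : Subgroup.normalizer (A : Set G) ≤ L :=
    normalizer_le_of_global M E A L hq1 hE.1 ctx.cent_le hCL x₁ hx₁C ho (hX₁ ▸ hNL)
  -- `N(P) ≤ N(A)`
  have hNPA : Subgroup.normalizer (P : Set G) ≤ Subgroup.normalizer (A : Set G) := by
    intro g hg
    apply Subgroup.mem_normalizer_fintype
    intro a ha
    have haP : g * a * g⁻¹ ∈ P := (Subgroup.mem_normalizer_iff.mp hg a).mp (ctx.A_le ha)
    refine ctx.omega _ haP ?_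
    rw [conj_pow, ctx.ea.2 a ha]
    group
  -- `p ∈ σ(L)`
  obtain ⟨S, hS⟩ := ctx.sylow
  have hPtop : IsSylowIn p P ⊤ := by
    refine ⟨le_top, ?_⟩
    rw [← hS, Subgroup.card_top]
    exact S.card_eq_multiplicity
  have hPsylL : IsSylowIn p P L := sylIn_mono hPtop hPL le_top
  have hP1 : P ≠ ⊥ := by
    intro hbot
    have h1 := Subgroup.card_le_of_le ctx.A_le
    rw [hbot, Subgroup.card_bot, ctx.cardA] at h1
    have := hpp.one_lt
    nlinarith
  have hpL : p ∣ Nat.card L :=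
    (Cfsg.Agent.Lib.Helper67.BG.dvd_card_of_isPGroup_ne_bot ctx.pgroup hP1).trans
      (Subgroup.card_dvd_of_le hPL)
  have hpσL : p ∈ sigma L := by
    obtain ⟨S', hS'⟩ := hPsylL.exists_sylow
    exact ⟨hpp, hpL, S', by rw [hS']; exact hNPA.trans hNAL⟩
  have hHallL := (h1350 L hL).1
  have hmemσ : ∀ (r : ℕ), r.Prime → r ∈ sigma L → ∀ x ∈ L, (∃ k : ℕ, x ^ r ^ k = 1) →
      x ∈ sigmaCore L := by
    intro r hr hrσ x hxL hxr
    apply Cfsg.Agent.Lib.Helper62.BG.mem_sigmaCore_of_primes L hHallL hxL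
    intro d hd hdvd
    obtain ⟨k, hk⟩ := hxr
    have : d = r := (Nat.prime_dvd_prime_iff_eq hd hr).mp
      (hd.dvd_of_dvd_pow (hdvd.trans (orderOf_dvd_of_pow_eq_one hk)))
    rw [this]
    exact hrσ
  have hPσ : P ≤ sigmaCore L := by
    intro x hx
    obtain ⟨k, hk⟩ := (IsPGroup.iff_orderOf.mp ctx.pgroup) ⟨x, hx⟩
    refine hmemσ p hpp hpσL x (hPL hx) ⟨k, ?_⟩
    rw [← hk, Subgroup.orderOf_mk]
    exact pow_orderOf_eq_one x
  -- `q ∉ σ(L)`
  have hqσL : q ∉ sigma L := by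
    intro hqσ
    have hzσ : z ∈ sigmaCore L := hmemσ q hqp hqσ z hzL hzq
    have hnotideal := (h1408 M hM p hp.2.1 hp.2.2.1 hp.2.2.2).1
    have hpβ : p ∉ beta L := fun h => hnotideal h.2
    obtain ⟨-, ⟨Ps, K, hKn, hKc⟩, -⟩ := (h1414 L hL).2.2.2.2 p hpp hpL hpβ
    haveI := hKn
    have hzK : (⟨z, hzσ⟩ : sigmaCore L) ∈ K := by
      apply mem_of_complement_sylow hne Ps K hKc
      obtain ⟨k, hk⟩ := hzq
      exact ⟨k, Subtype.ext (by simpa using hk)⟩
    have hKcop : (Nat.card K).Coprime p := by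
      have h1 : (Ps : Subgroup (sigmaCore L)).index = Nat.card K := hKc.index_eq_card
      rw [← h1, Nat.coprime_comm, hpp.coprime_iff_not_dvd]
      exact Ps.not_dvd_index
    apply hzC
    rw [Subgroup.mem_centralizer_iff]
    intro a ha
    have haσ : a ∈ sigmaCore L := hPσ (ctx.A_le ha)
    have hwK : (⟨a, haσ⟩ : sigmaCore L) * ⟨z, hzσ⟩ * (⟨a, haσ⟩ : sigmaCore L)⁻¹ *
        (⟨z, hzσ⟩ : sigmaCore L)⁻¹ ∈ K :=
      K.mul_mem (hKn.conj_mem _ hzK _) (K.inv_mem hzK)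
    have hwA : a * z * a⁻¹ * z⁻¹ ∈ A := by
      have hzN : z ∈ Subgroup.normalizer (A : Set G) := ctx.normE hzE
      have h3 : z * a⁻¹ * z⁻¹ ∈ A := (Subgroup.mem_normalizer_iff.mp hzN a⁻¹).mp (A.inv_mem ha)
      have e : a * z * a⁻¹ * z⁻¹ = a * (z * a⁻¹ * z⁻¹) := by group
      rw [e]
      exact A.mul_mem ha h3
    have hwp : ((⟨a, haσ⟩ : sigmaCore L) * ⟨z, hzσ⟩ * (⟨a, haσ⟩ : sigmaCore L)⁻¹ *
        (⟨z, hzσ⟩ : sigmaCore L)⁻¹) ^ p = 1 := by
      apply Subtype.ext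
      simpa using ctx.ea.2 _ hwA
    have hw1 : ((⟨a, haσ⟩ : sigmaCore L) * ⟨z, hzσ⟩ * (⟨a, haσ⟩ : sigmaCore L)⁻¹ *
        (⟨z, hzσ⟩ : sigmaCore L)⁻¹) = 1 := by
      have h1 : orderOf (⟨_, hwK⟩ : K) ∣ p := by
        apply orderOf_dvd_of_pow_eq_one
        exact Subtype.ext hwp
      have h2 : orderOf (⟨_, hwK⟩ : K) ∣ Nat.card K := orderOf_dvd_natCard _
      have h3 : orderOf (⟨_, hwK⟩ : K) = 1 :=
        Nat.eq_one_of_dvd_coprimes hKcop h2 h1
      have h4 := orderOf_eq_one_iff.mp h3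
      exact congrArg Subtype.val h4
    have hw1' : a * z * a⁻¹ * z⁻¹ = 1 := by
      have := congrArg Subtype.val hw1
      simpa using this
    calc a * z = (a * z * a⁻¹ * z⁻¹) * (z * a) := by group
      _ = z * a := by rw [hw1', one_mul]
  -- `q ∈ τ₂(L)` and the elementary abelian subgroup `B`
  obtain ⟨⟨hr2, hr1⟩, -, B, hBea, hBc, hXB⟩ := h1409 L hL q hqσL X₁ hX₁c hNL
  have hqτ : q ∈ tau2 L := ⟨hqp, hqσL, hr2, hr1⟩
  have hBL : B ≤ L := by
    intro b hb
    apply hCx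
    rw [Subgroup.mem_centralizer_iff]
    intro t ht
    rw [Set.mem_singleton_iff] at ht
    subst ht
    have hxB : t ∈ B := hXB (hX₁ ▸ Subgroup.mem_zpowers t)
    exact congrArg Subtype.val ((isMulCommutative_iff.mp hBea.1) ⟨t, hxB⟩ ⟨b, hb⟩)
  -- a Sylow `q`-subgroup of `L` containing `z` and `x₁`
  have hzp : IsPGroup q (Subgroup.zpowers z) := by
    obtain ⟨k, hk⟩ := hzq
    obtain ⟨j, -, hj⟩ := (Nat.dvd_prime_pow hqp).mp (orderOf_dvd_of_pow_eq_one hk)
    exact IsPGroup.of_card (n := j) (by rw [Nat.card_zpowers, hj])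
  have hxp : IsPGroup q (Subgroup.zpowers x₁) :=
    IsPGroup.of_card (n := 1) (by rw [Nat.card_zpowers, ho, pow_one])
  have hWp : IsPGroup q (Subgroup.zpowers z ⊔ Subgroup.zpowers x₁ : Subgroup G) := by
    apply IsPGroup.to_sup_of_normal_right' hzp hxp
    refine le_trans ?_ (centralizer_le_normalizer' _)
    rw [centralizer_zpowers_eq, Subgroup.zpowers_le, Subgroup.mem_centralizer_iff]
    intro t ht
    rw [Set.mem_singleton_iff] at ht
    subst ht
    exact hzx.symm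
  have hWL : (Subgroup.zpowers z ⊔ Subgroup.zpowers x₁ : Subgroup G) ≤ L :=
    sup_le (Subgroup.zpowers_le.mpr hzL)
      (Subgroup.zpowers_le.mpr (hCx (by
        rw [Subgroup.mem_centralizer_iff]
        intro t ht
        rw [Set.mem_singleton_iff] at ht
        subst ht
        rfl)))
  obtain ⟨Qt, hQt, hWQt⟩ := exists_isSylowIn_ge hWp hWL
  have hzQt : z ∈ Qt := hWQt ((le_sup_left : Subgroup.zpowers z ≤ _) (Subgroup.mem_zpowers z))
  have hxQt : x₁ ∈ Qt :=
    hWQt ((le_sup_right : Subgroup.zpowers x₁ ≤ _) (Subgroup.mem_zpowers x₁))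
  have hBp : IsPGroup q B := IsPGroup.of_card (n := 2) hBc
  obtain ⟨Q', hQ', hBQ'⟩ := exists_isSylowIn_ge hBp hBL
  obtain ⟨l, hl, hQeq⟩ := hQ'.exists_conj hQt
  obtain ⟨B', hB'def⟩ : ∃ B' : Subgroup G, B' = B.map (MulAut.conj l).toMonoidHom := ⟨_, rfl⟩
  have hB'Qt : B' ≤ Qt := by
    rw [hB'def, hQeq]
    exact Subgroup.map_mono hBQ'
  have hB'L : B' ≤ L := hB'Qt.trans hQt.1
  have hB'ea : IsElementaryAbelian q B' := hB'def ▸ Cfsg.Agent.Lib.Helper76.BG.ea_map_conj hBea l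
  have hB'c : Nat.card B' = q ^ 2 := by
    rw [hB'def, card_map_conj]
    exact hBc
  obtain ⟨hnilL, hsylL, -, hfreeL, -, -⟩ := h1417 L hL q hqτ B' ⟨hB'L, hB'ea, hB'c⟩
  obtain ⟨SQ, hSQ⟩ := hQt.exists_sylow
  obtain ⟨hQtcomm, hQtB⟩ := hsylL SQ
  rw [hSQ] at hQtB
  have hOm := (hQtB hB'Qt).1
  have hQtc : ∀ u ∈ Qt, ∀ v ∈ Qt, u * v = v * u := by
    rw [← hSQ]
    rintro _ ⟨u', hu', rfl⟩ _ ⟨v', hv', rfl⟩
    have := congrArg (fun t : (SQ : Subgroup L) => ((t : L) : G))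
      ((isMulCommutative_iff.mp hQtcomm) ⟨u', hu'⟩ ⟨v', hv'⟩)
    simpa using this
  have hx₁B' : x₁ ∈ B' := (hOm x₁ hxQt).mp (by rw [← ho]; exact pow_orderOf_eq_one x₁)
  -- `L ≤ N(P)`
  have hPsylσ : IsSylowIn p P (sigmaCore L) := sylIn_mono hPsylL hPσ hHallL.1
  have hσNP : sigmaCore L ≤ Subgroup.normalizer (P : Set G) := by
    obtain ⟨Sσ, hSσ⟩ := hPsylσ.exists_sylow
    haveI : Group.IsNilpotent (sigmaCore L) := hnilL
    have hnormal : (Sσ : Subgroup (sigmaCore L)).Normal := inferInstance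
    intro s hs
    apply Subgroup.mem_normalizer_fintype
    intro n hn
    have hn' : n ∈ (Sσ : Subgroup (sigmaCore L)).map (sigmaCore L).subtype := by
      rw [hSσ]
      exact hn
    obtain ⟨n', hn'mem, rfl⟩ := hn'
    have h1 := hnormal.conj_mem n' hn'mem ⟨s, hs⟩
    have h2 : ((⟨s, hs⟩ * n' * (⟨s, hs⟩ : sigmaCore L)⁻¹ : sigmaCore L) : G) ∈
        (Sσ : Subgroup (sigmaCore L)).map (sigmaCore L).subtype := ⟨_, h1, rfl⟩
    rw [hSσ] at h2
    simpa using h2
  have hLNP : L ≤ Subgroup.normalizer (P : Set G) := by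
    intro l' hl'
    have h1 : (sigmaCore L).map (MulAut.conj l').toMonoidHom = sigmaCore L :=
      map_conj_eq_of_mem_normalizer (Cfsg.Agent.Lib.Helper67.BG.sigmaCore_normalizer L hl')
    have h2 : IsSylowIn p (P.map (MulAut.conj l').toMonoidHom) (sigmaCore L) := by
      have := sylIn_map_conj hPsylσ l'
      rwa [h1] at this
    have h3 : P ≤ P.map (MulAut.conj l').toMonoidHom :=
      sylIn_normal_le h2 ctx.pgroup hPσ hσNP
    have h4 : P.map (MulAut.conj l').toMonoidHom = P := by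
      refine (Subgroup.eq_of_le_of_card_ge h3 ?_).symm
      rw [card_map_conj]
    exact mem_normalizer_of_map_conj_eq h4
  -- the element `y`
  have hX₁B' : X₁ ≤ B' := by
    rw [hX₁, Subgroup.zpowers_le]
    exact hx₁B'
  obtain ⟨y, hyB', hyX⟩ : ∃ y ∈ B', y ∉ X₁ := by
    by_contra hcon
    push Not at hcon
    have h1 := Subgroup.card_le_of_le (show B' ≤ X₁ from fun b hb => hcon b hb)
    rw [hB'c, hX₁c] at h1
    have := hqp.one_lt
    nlinarith
  have hyq : y ^ q = 1 := hB'ea.2 y hyB'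
  have hy1 : y ≠ 1 := by
    rintro rfl
    exact hyX X₁.one_mem
  have hyo : orderOf y = q := orderOf_eq_prime hyq hy1
  have hyL : y ∈ L := hB'L hyB'
  have hyx : x₁ * y = y * x₁ := hQtc x₁ hxQt y (hB'Qt hyB')
  refine ⟨y, hNPA (hLNP hyL), ?_, hyq, hQtc y (hB'Qt hyB') z hzQt, ?_⟩
  · intro hyE
    apply hyX
    rw [hX₁]
    exact mem_zpowers_of_rank_one70 hqp hq1 (hE.1 hx₁E) (hE.1 hyE) hyx ho hyo
  · -- `C_A(y) = 1`
    have hsup : X₁ ⊔ Subgroup.zpowers y = B' := by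
      have hle : X₁ ⊔ Subgroup.zpowers y ≤ B' :=
        sup_le hX₁B' (Subgroup.zpowers_le.mpr hyB')
      have hlt : X₁ < X₁ ⊔ Subgroup.zpowers y := by
        refine lt_of_le_of_ne le_sup_left ?_
        intro heq
        apply hyX
        rw [heq]
        exact (le_sup_right : Subgroup.zpowers y ≤ _) (Subgroup.mem_zpowers y)
      have hcl := card_lt_of_lt hlt
      rw [hX₁c] at hcl
      have hdvd : Nat.card (X₁ ⊔ Subgroup.zpowers y : Subgroup G) ∣ q ^ 2 := by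
        rw [← hB'c]
        exact Subgroup.card_dvd_of_le hle
      obtain ⟨j, hj2, hj⟩ := (Nat.dvd_prime_pow hqp).mp hdvd
      have hj' : j = 2 := by
        by_contra hjne
        have hj1 : j ≤ 1 := by omega
        have : q ^ j ≤ q ^ 1 := Nat.pow_le_pow_right hqp.pos hj1
        rw [pow_one] at this
        omega
      refine Subgroup.eq_of_le_of_card_ge hle ?_
      rw [hB'c, hj, hj']
    rw [eq_bot_iff]
    intro a ha
    have haA : a ∈ A := ha.1
    have hay : a ∈ Subgroup.centralizer ({y} : Set G) := ha.2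
    have hmem : a ∈ sigmaCore L ⊓ Subgroup.centralizer (B' : Set G) := by
      refine ⟨hPσ (ctx.A_le haA), ?_⟩
      show a ∈ Subgroup.centralizer (B' : Set G)
      rw [Subgroup.mem_centralizer_iff]
      intro b hb
      have hle : X₁ ⊔ Subgroup.zpowers y ≤ Subgroup.centralizer ({a} : Set G) := by
        refine sup_le ?_ ?_
        · rw [hX₁, Subgroup.zpowers_le, Subgroup.mem_centralizer_iff]
          intro t ht
          rw [Set.mem_singleton_iff] at ht
          subst ht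
          exact ((Subgroup.mem_centralizer_iff.mp hx₁C) t haA)
        · rw [Subgroup.zpowers_le, Subgroup.mem_centralizer_iff]
          intro t ht
          rw [Set.mem_singleton_iff] at ht
          subst ht
          exact ((Subgroup.mem_centralizer_iff.mp hay) y rfl).symm
      rw [← hsup] at hb
      have := (Subgroup.mem_centralizer_iff.mp (hle hb)) a rfl
      exact this.symm
    rw [hfreeL] at hmem
    exact hmem

end Cfsg.Agent.Lib.Helper70.BG21
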