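import Mathlib
import Cfsg.Agent.Lib.Helper70.BG.S1421Glue
import Cfsg.Statements.S1403
import Cfsg.Statements.S1404
import Cfsg.Statements.S1410
import Cfsg.Statements.S1418
import Cfsg.Statements.S1419
import Cfsg.Statements.S1421

/-!
# S1421 (BG 12.12): the core, from the packages of `S1421Defs` (helper70)
-/

set_option autoImplicit false

namespace Cfsg.Agent.Lib.Helper70.BG21

open Cfsg

universe u

variable {G : Type u} [Group G]

theorem coatom_ne_bot70 (hG : Cfsg.IsMinSimpleOddOrder G) {M : Subgroup G} (hM : IsCoatom M) :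
    M ≠ ⊥ := by
  intro hbot
  have : IsSimpleGroup G := hG.2.1
  obtain ⟨x, hx⟩ := exists_ne (1 : G)
  have hlt : (⊥ : Subgroup G) < Subgroup.zpowers x := by
    rw [bot_lt_iff_ne_bot]
    intro h
    exact hx (Subgroup.zpowers_eq_bot.mp h)
  have htop : Subgroup.zpowers x = ⊤ := hM.2 _ (hbot ▸ hlt)
  apply hG.2.2.1
  refine ⟨⟨fun a b => ?_⟩⟩
  have ha : a ∈ Subgroup.zpowers x := htop ▸ Subgroup.mem_top a
  have hb : b ∈ Subgroup.zpowers x := htop ▸ Subgroup.mem_top b
  obtain ⟨m, rfl⟩ := Subgroup.mem_zpowers_iff.mp ha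
  obtain ⟨n, rfl⟩ := Subgroup.mem_zpowers_iff.mp hb
  rw [← zpow_add, ← zpow_add, add_comm]

/-- If `M` is the only maximal subgroup over `C_G(X)`, then `N_G(X) ≤ M`. -/
theorem normalizer_le_of_cent_unique (hG : IsMinSimpleOddOrder G) {M : Subgroup G}
    (hM : IsCoatom M) (X : Subgroup G) (hCM : Subgroup.centralizer (X : Set G) ≤ M)
    (hu : ∀ L : Subgroup G, IsCoatom L → Subgroup.centralizer (X : Set G) ≤ L → L = M) :
    Subgroup.normalizer (X : Set G) ≤ M := by
  intro g hg
  have hcoat : IsCoatom (M.map (MulAut.conj g).toMonoidHom) :=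
    ((MulAut.conj g).mapSubgroup.isCoatom_iff M).mpr hM
  have hle : Subgroup.centralizer (X : Set G) ≤ M.map (MulAut.conj g).toMonoidHom := by
    intro c hc
    refine ⟨g⁻¹ * c * g, hCM ?_, by simp [MulAut.conj_apply, mul_assoc]⟩
    rw [Subgroup.mem_centralizer_iff] at hc ⊢
    intro x hx
    have hgx : g * x * g⁻¹ ∈ X := (Subgroup.mem_normalizer_iff.mp hg x).mp hx
    have h1 := hc (g * x * g⁻¹) hgx
    calc x * (g⁻¹ * c * g) = g⁻¹ * ((g * x * g⁻¹) * c) * g := by group
      _ = g⁻¹ * (c * (g * x * g⁻¹)) * g := by rw [h1]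
      _ = g⁻¹ * c * g * x := by group
  have heq := hu _ hcoat hle
  have hgN : g ∈ Subgroup.normalizer (M : Set G) := by
    rw [Subgroup.mem_normalizer_iff]
    intro h
    constructor
    · intro hh
      rw [← heq]
      exact ⟨h, hh, by simp [MulAut.conj_apply]⟩
    · intro hh
      rw [← heq] at hh
      obtain ⟨h', hh', he⟩ := hh
      have : h' = h := by
        have h2 : g * h' * g⁻¹ = g * h * g⁻¹ := by simpa [MulAut.conj_apply] using he
        calc h' = g⁻¹ * (g * h' * g⁻¹) * g := by group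
          _ = g⁻¹ * (g * h * g⁻¹) * g := by rw [h2]
          _ = h := by group
      rw [← this]
      exact hh'
  rw [Cfsg.Agent.Lib.Helper62.BG.normalizer_coatom_eq_self hG hM (coatom_ne_bot70 hG hM)] at hgN
  exact hgN

/-- `N(A) ∩ N(V) ≤ N(A ∩ C(V))`. -/
theorem mem_normalizer_inf_centralizer {A V : Subgroup G} {g : G}
    (hgA : g ∈ Subgroup.normalizer (A : Set G)) (hgV : g ∈ Subgroup.normalizer (V : Set G)) :
    g ∈ Subgroup.normalizer ((A ⊓ Subgroup.centralizer (V : Set G) : Subgroup G) : Set G) := by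
  have key : ∀ g : G, g ∈ Subgroup.normalizer (A : Set G) →
      g ∈ Subgroup.normalizer (V : Set G) →
      ∀ x ∈ A ⊓ Subgroup.centralizer (V : Set G),
        g * x * g⁻¹ ∈ A ⊓ Subgroup.centralizer (V : Set G) := by
    intro g hgA hgV x hx
    refine ⟨(Subgroup.mem_normalizer_iff.mp hgA x).mp hx.1, ?_⟩
    show g * x * g⁻¹ ∈ Subgroup.centralizer (V : Set G)
    rw [Subgroup.mem_centralizer_iff]
    intro v hv
    have hv' : g⁻¹ * v * g ∈ V := by
      have := (Subgroup.mem_normalizer_iff.mp (Subgroup.inv_mem _ hgV) v).mp hv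
      simpa using this
    have h1 := (Subgroup.mem_centralizer_iff.mp hx.2) _ hv'
    calc v * (g * x * g⁻¹) = g * ((g⁻¹ * v * g) * x) * g⁻¹ := by group
      _ = g * (x * (g⁻¹ * v * g)) * g⁻¹ := by rw [h1]
      _ = g * x * g⁻¹ * v := by group
  rw [Subgroup.mem_normalizer_iff]
  intro x
  refine ⟨key g hgA hgV x, fun hx => ?_⟩
  have h1 := key g⁻¹ (Subgroup.inv_mem _ hgA) (Subgroup.inv_mem _ hgV) _ hx
  have e : g⁻¹ * (g * x * g⁻¹) * g⁻¹⁻¹ = x := by group
  rwa [e] at h1

variable [Finite G]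

/-- The context at a `τ₂`-prime whose Sylow subgroups in `G` are abelian. -/
theorem exists_ctx (hG : IsMinSimpleOddOrder G)
    (h1417 : type_of% (@Cfsg.CfsgFrozen.S1417 G _ _ hG))
    (h1418 : type_of% (@Cfsg.CfsgFrozen.S1418 G _ _ hG))
    (M : Subgroup G) (hM : IsCoatom M) (hHall : IsPiHallOf (sigma M) (sigmaCore M) M)
    (E : Subgroup G) (hE : IsComplIn E (sigmaCore M) M)
    (p : ℕ) [Fact p.Prime] (hp : p ∈ tau2 M)
    (hab : ∃ S : Sylow p G, IsMulCommutative (S : Subgroup G)) :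
    ∃ A P : Subgroup G, CtxA M E p A P := by
  obtain ⟨A, hAE, hAea, hAc⟩ := exists_ea_in_compl hG M hM hHall E hE p hp
  obtain ⟨⟨hnE, hlines⟩, ⟨hcent, hinter, hnot⟩, huniq⟩ :=
    h1418 M hM E hE p hp A ⟨hAE, hAea, hAc⟩
  obtain ⟨hnil, -, -, hfree, -, hex⟩ := h1417 M hM p hp A ⟨hAE.trans hE.1, hAea, hAc⟩
  have hAp : IsPGroup p A := IsPGroup.of_card (n := 2) hAc
  obtain ⟨S, hAS⟩ := hAp.exists_le_sylow
  obtain ⟨S₀, hS₀⟩ := hab
  have hScomm : IsMulCommutative (S : Subgroup G) := sylow_comm_all S₀ S hS₀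
  have hSC : (S : Subgroup G) ≤ Subgroup.centralizer (A : Set G) := by
    intro x hx
    rw [Subgroup.mem_centralizer_iff]
    intro a ha
    have := congrArg (fun t : (S : Subgroup G) => (t : G))
      ((isMulCommutative_iff.mp hScomm) ⟨a, hAS ha⟩ ⟨x, hx⟩)
    exact this
  have hcentE : Subgroup.centralizer (A : Set G) ≤ E := by
    intro x hx
    have := hcent hx
    rwa [hinter] at this
  have hSE : (S : Subgroup G) ≤ E := hSC.trans hcentE
  refine ⟨A, S, ⟨hAS, hSE, hAea, hAc, S.isPGroup', ⟨S, rfl⟩, hScomm, ?_, hnE, hcentE, hinter,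
    hnot, ?_, hex, hfree, hnil⟩⟩
  · intro x hx hxp
    by_cases hx1 : x = 1
    · rw [hx1]
      exact A.one_mem
    · have hcard : Nat.card (Subgroup.zpowers x) = p := by
        rw [Nat.card_zpowers]
        exact orderOf_eq_prime hxp hx1
      exact hlines (Subgroup.zpowers x) (Subgroup.zpowers_le.mpr (hSE hx)) hcard
        (Subgroup.mem_zpowers x)
  · intro X hXA hXc hN
    by_contra hne
    obtain ⟨hCM, hu⟩ := huniq X hXA hXc hne
    exact hnot (hN.trans (normalizer_le_of_cent_unique hG hM X hCM hu))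

/-- **S1421 (BG 12.12)** from the packages. -/
theorem s1421_core (hA5 : LemA5.{u}) (hA7 : LemA7.{u}) (hGlob : LemGlob.{u}) (hA9 : LemA9.{u})
    (hN3 : LemN3.{u}) (hNfin : LemNfin.{u}) (hAsmA : LemAsmA.{u}) (hAsmB : LemAsmB.{u})
    (hG : Cfsg.IsMinSimpleOddOrder G)
    (h1350 : type_of% (@Cfsg.CfsgFrozen.S1350 G _ _ hG))
    (h1403 : type_of% (@Cfsg.CfsgFrozen.S1403 G _ _ hG))
    (h1404 : type_of% (@Cfsg.CfsgFrozen.S1404 G _ _ hG))
    (h1408 : type_of% (@Cfsg.CfsgFrozen.S1408 G _ _ hG))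
    (h1409 : type_of% (@Cfsg.CfsgFrozen.S1409 G _ _ hG))
    (h1410 : type_of% (@Cfsg.CfsgFrozen.S1410 G _ _ hG))
    (h1412 : type_of% (@Cfsg.CfsgFrozen.S1412 G _ _ hG))
    (h1414 : type_of% (@Cfsg.CfsgFrozen.S1414 G _ _ hG))
    (h1416 : type_of% (@Cfsg.CfsgFrozen.S1416 G _ _ hG))
    (h1417 : type_of% (@Cfsg.CfsgFrozen.S1417 G _ _ hG))
    (h1418 : type_of% (@Cfsg.CfsgFrozen.S1418 G _ _ hG))
    (h1419 : type_of% (@Cfsg.CfsgFrozen.S1419 G _ _ hG)) :
    type_of% (@Cfsg.CfsgFrozen.S1421 G _ _ hG) := by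
  intro M hM E hE h
  have hHall := (h1350 M hM).1
  have hcardE := Cfsg.Agent.Lib.Helper76.BG.card_compl_eq_relIndex hE
  have hσE : ∀ q : ℕ, q.Prime → q ∣ Nat.card E → q ∉ sigma M := by
    intro q hq hdvd hqσ
    rw [hcardE] at hdvd
    exact hHall.2.2 q hq hqσ hdvd
  have hcop : (Nat.card (sigmaCore M)).Coprime (Nat.card E) := by
    rw [hcardE]
    exact (Cfsg.Agent.Lib.Helper76.BG.card_sigma_split M hHall).2.symm
  have hrank : ∀ (L : Subgroup G), IsCoatom L → ∀ q : ℕ, q.Prime → q ∉ sigma L →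
      PRankLE q 2 L := by
    intro L hL q hq hqσ
    by_contra hr
    exact hqσ (Cfsg.Agent.Lib.Helper78.BG.alpha_subset_sigma hG h1403 L hL ⟨hq, hr⟩)
  have hfocal : ∀ (p : ℕ) [Fact p.Prime] (P : Sylow p G), (P : Subgroup G) ≠ ⊥ →
      (P : Subgroup G) ≤ ⁅Subgroup.normalizer ((P : Subgroup G) : Set G),
        Subgroup.normalizer ((P : Subgroup G) : Set G)⁆ := by
    intro p _ P hP1
    exact Cfsg.Agent.Lib.Helper9.BG.sylow_le_commutator_normalizer hG
      (fun M hM p _ hp X hXp hX1 hXM => (h1404 M hM p hp X hXp hX1 hXM).1)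
      (fun p _ H hH => h1410 p H hH) p P hP1
  have htau : ∀ q : ℕ, q.Prime → q ∣ Nat.card E → q ∈ tau1 M ∪ tau3 M ∨ q ∈ tau2 M := by
    intro q hq hdvd
    have hqσ := hσE q hq hdvd
    exact tau_cases M hq hqσ (hdvd.trans (Subgroup.card_dvd_of_le hE.1)) (hrank M hM q hq hqσ)
  have hsing := sing_tau2 M E h htau
  -- reduction to the abstract conclusion
  suffices key : (∃ A₀ : Subgroup G, A₀ ≤ E ∧ E ≤ Subgroup.normalizer (A₀ : Set G) ∧
        IsMulCommutative A₀ ∧ ∀ e ∈ E, e ≠ 1 → ¬ Reg M e → e ∈ A₀) ∧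
      ∃ E₀ : Subgroup G, E₀ ≤ E ∧ Monoid.exponent E₀ = Monoid.exponent E ∧
        ∀ e ∈ E₀, e ≠ 1 → Reg M e by
    obtain ⟨⟨A₀, h1, h2, h3, h4⟩, hb⟩ := key
    refine ⟨⟨A₀, h1, h2, h3, ?_⟩, hb⟩
    intro x hxV hx1 e he
    by_cases he1 : e = 1
    · rw [he1]
      exact A₀.one_mem
    · refine h4 e he.1 he1 ?_
      intro hreg
      have hxmem : x ∈ sigmaCore M ⊓ Subgroup.centralizer ({e} : Set G) := by
        refine ⟨hxV, ?_⟩
        show x ∈ Subgroup.centralizer ({e} : Set G)
        rw [Subgroup.mem_centralizer_iff]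
        intro y hy
        rw [Set.mem_singleton_iff] at hy
        subst hy
        have := (Subgroup.mem_centralizer_iff.mp he.2) x rfl
        exact this.symm
      rw [hreg, Subgroup.mem_bot] at hxmem
      exact hx1 hxmem
  -- the trivial case `M_σ = 1`
  by_cases hV : sigmaCore M = ⊥
  · have hreg : ∀ e : G, Reg M e := fun e => by
      show sigmaCore M ⊓ _ = ⊥
      rw [hV]
      exact bot_inf_eq _
    refine ⟨⟨⊥, bot_le, ?_, ?_, fun e _ _ hs => absurd (hreg e) hs⟩,
      ⟨E, le_rfl, rfl, fun e _ _ => hreg e⟩⟩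
    · intro x _
      rw [Subgroup.mem_normalizer_iff]
      intro y
      simp [Subgroup.mem_bot]
    · rw [isMulCommutative_iff]
      rintro ⟨a, ha⟩ ⟨b, hb⟩
      apply Subtype.ext
      rw [Subgroup.mem_bot] at ha hb
      subst ha
      subst hb
      rfl
  by_cases hN : ∃ p : ℕ, p ∈ tau2 M ∧ ∃ _ : Fact p.Prime,
      ∀ S : Sylow p G, ¬ IsMulCommutative (S : Subgroup G)
  · -- Case N
    obtain ⟨p, hp, hpf, hS⟩ := hN
    have hpp : p.Prime := hpf.out
    obtain ⟨A, hAE, hAea, hAc⟩ := exists_ea_in_compl hG M hM hHall E hE p hp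
    obtain ⟨⟨hnE, hlines⟩, ⟨hcent, hinter, hnot⟩, huniq⟩ :=
      h1418 M hM E hE p hp A ⟨hAE, hAea, hAc⟩
    obtain ⟨hnil, hsyl, -, hfree, -, hex⟩ := h1417 M hM p hp A ⟨hAE.trans hE.1, hAea, hAc⟩
    obtain ⟨htau2, ⟨hXc, -⟩, hother⟩ := h1419 M hM E hE p hp hS A ⟨hAE, hAea, hAc⟩
    obtain ⟨X, hXdef⟩ : ∃ X : Subgroup G,
        X = A ⊓ Subgroup.centralizer (sigmaCore M : Set G) := ⟨_, rfl⟩
    rw [← hXdef] at hXc hother
    have hXA : X ≤ A := hXdef ▸ inf_le_left
    have hXE : X ≤ E := hXA.trans hAE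
    have hEX : E ≤ Subgroup.normalizer (X : Set G) := by
      intro g hg
      rw [hXdef]
      exact mem_normalizer_inf_centralizer (hnE hg)
        (Cfsg.Agent.Lib.Helper67.BG.sigmaCore_normalizer M (hE.1 hg))
    have hab : ∀ Q : Subgroup G, Q ≤ M → IsPGroup p Q → IsMulCommutative Q :=
      fun Q hQM hQ => pgroup_comm_of_sylow M (fun P => (hsyl P).1) Q hQM hQ
    have hXM : Subgroup.centralizer (X : Set G) ≤ M := by
      refine (huniq X hXA hXc ?_).1
      intro hbot
      apply hV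
      rw [eq_bot_iff, ← hbot]
      refine le_inf le_rfl ?_
      intro v hv
      rw [Subgroup.mem_centralizer_iff]
      intro x hx
      rw [hXdef] at hx
      exact ((Subgroup.mem_centralizer_iff.mp hx.2) v hv).symm
    have hmax := (h1408 M hM p hp.2.1 hp.2.2.1 hp.2.2.2).2 A (hAE.trans hE.1) hAea hAc
    have hN3' := hN3 hG h1412 M E p hS A ⟨hAE, hAea, hAc⟩ hE.1 hnE hmax hab X hXA hXc hXM
    refine hNfin E (Reg M) p X hXE hXc hEX (fun Q hQE hQ => hab Q (hQE.trans hE.1) hQ)
      (fun e he k hs _ => not_reg_pow M e k hs) ?_ ?_ hN3' ?_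
    · -- singular elements are p-elements
      intro e he he1 hs
      have hall : ∀ {d : ℕ}, d.Prime → d ∣ orderOf e → d = p := by
        intro d hd hdvd
        have := hsing e he hs d hd hdvd
        rw [htau2] at this
        exact this
      have ho := Nat.eq_prime_pow_of_unique_prime_dvd (orderOf_pos e).ne' hall
      exact ⟨_, by rw [← ho]; exact pow_orderOf_eq_one e⟩
    · -- singular elements of order p lie in X
      intro e he he1 hs hep
      by_contra hne
      have hcard : Nat.card (Subgroup.zpowers e) = p := by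
        rw [Nat.card_zpowers]
        exact orderOf_eq_prime hep he1
      have hZne : Subgroup.zpowers e ≠ X := by
        intro heq
        exact hne (heq ▸ Subgroup.mem_zpowers e)
      have := (hother (Subgroup.zpowers e) (Subgroup.zpowers_le.mpr he) hcard hZne).1
      rw [centralizer_zpowers_eq] at this
      exact hs this
    · -- an element of order p outside X
      by_contra hcon
      push Not at hcon
      have hAX : A ≤ X := by
        intro a ha
        by_contra haX
        exact hcon a (hAE ha) haX (hAea.2 a ha)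
      have h1 := Subgroup.card_le_of_le hAX
      rw [hAc, hXc] at h1
      have h2 : p < p ^ 2 := by
        have := hpp.one_lt
        nlinarith
      omega
  · -- Case A
    have habel : ∀ p : ℕ, p ∈ tau2 M → ∀ [Fact p.Prime],
        ∃ S : Sylow p G, IsMulCommutative (S : Subgroup G) := by
      intro p hp hpf
      by_contra hcon
      exact hN ⟨p, hp, hpf, fun S hS => hcon ⟨S, hS⟩⟩
    have stage1 : ∀ p : ℕ, p ∈ tau2 M → ∀ [Fact p.Prime], ∃ A P : Subgroup G,
        CtxA M E p A P ∧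
          Subgroup.normalizer (A : Set G) ≤ Subgroup.normalizer (P : Set G) := by
      intro p hp hpf
      obtain ⟨A, P, ctx⟩ := exists_ctx hG h1417 h1418 M hM hHall E hE p hp (habel p hp)
      exact ⟨A, P, ctx, hA5 hG hrank hfocal M hM E hE hσE p A P ctx⟩
    have hpel : ∀ (p : ℕ) [Fact p.Prime] (A P : Subgroup G), CtxA M E p A P →
        Subgroup.normalizer (A : Set G) ≤ Subgroup.normalizer (P : Set G) →
        ∀ e ∈ E, (∃ k : ℕ, e ^ p ^ k = 1) → e ∈ P := by
      intro p _ A P ctx hnP e he hk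
      obtain ⟨S, hS⟩ := ctx.sylow
      rw [← hS]
      exact mem_sylow_of_normalizes S e (by rw [hS]; exact hnP (ctx.normE he)) hk
    have stage2 : ∀ p ∈ tau2 M, p.Prime → p ∣ Nat.card E → ∃ P D : Subgroup G, P ≤ E ∧
        IsPGroup p P ∧ IsMulCommutative P ∧ (∀ e ∈ E, (∃ k : ℕ, e ^ p ^ k = 1) → e ∈ P) ∧
        D ≤ P ∧ E ≤ Subgroup.normalizer (D : Set G) ∧
        Monoid.exponent D = Monoid.exponent P ∧ ∀ e ∈ D, e ≠ 1 → Reg M e := by
      intro p hp hpp _
      haveI : Fact p.Prime := ⟨hpp⟩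
      obtain ⟨A, P, ctx, hnP⟩ := stage1 p hp
      obtain ⟨hcP, hder⟩ := hA7 hG M E p A P ctx hnP
      have hglob := hGlob hG h1350 h1408 h1409 h1414 h1416 h1417 M hM E hE p hp A P ctx hnP hcP
      have hnt : ∀ x ∈ E, ∀ q : ℕ, q.Prime → (∃ k : ℕ, x ^ q ^ k = 1) →
          x ∉ Subgroup.centralizer (A : Set G) → q ∈ tau1 M ∪ tau3 M := by
        intro x hx q hq hxq hxC
        have hx1 : x ≠ 1 := by
          rintro rfl
          exact hxC (Subgroup.one_mem _)
        have hqE : q ∣ Nat.card E := by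
          obtain ⟨k, hk⟩ := hxq
          have h1 : orderOf x ∣ q ^ k := orderOf_dvd_of_pow_eq_one hk
          have h2 : orderOf x ≠ 1 := by rwa [Ne, orderOf_eq_one_iff]
          obtain ⟨r, hr, hrdvd⟩ := Nat.exists_prime_and_dvd h2
          have : r = q :=
            (Nat.prime_dvd_prime_iff_eq hr hq).mp (hr.dvd_of_dvd_pow (hrdvd.trans h1))
          rw [← this]
          exact hrdvd.trans (Subgroup.orderOf_dvd_natCard E hx)
        rcases htau q hq hqE with h13 | h2
        · exact h13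
        · exfalso
          haveI : Fact q.Prime := ⟨hq⟩
          obtain ⟨A', P', ctx', hnP'⟩ := stage1 q h2
          have hxP' : x ∈ P' := hpel q A' P' ctx' hnP' x hx hxq
          apply hxC
          rw [Subgroup.mem_centralizer_iff]
          intro a ha
          by_cases hqp : q = p
          · subst hqp
            have hxP : x ∈ P := hpel q A P ctx hnP x hx hxq
            have := congrArg (fun t : P => (t : G))
              ((isMulCommutative_iff.mp ctx.comm) ⟨a, ctx.A_le ha⟩ ⟨x, hxP⟩)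
            exact this
          · have h1 : a * x * a⁻¹ * x⁻¹ ∈ P' := by
              have haN : a ∈ Subgroup.normalizer (P' : Set G) :=
                hnP' (ctx'.normE (ctx.P_le (ctx.A_le ha)))
              exact P'.mul_mem ((Subgroup.mem_normalizer_iff.mp haN x).mp hxP')
                (P'.inv_mem hxP')
            have h2' : a * x * a⁻¹ * x⁻¹ ∈ A := by
              have hxN : x ∈ Subgroup.normalizer (A : Set G) := ctx.normE hx
              have h3 : x * a⁻¹ * x⁻¹ ∈ A :=
                (Subgroup.mem_normalizer_iff.mp hxN a⁻¹).mp (A.inv_mem ha)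
              have e : a * x * a⁻¹ * x⁻¹ = a * (x * a⁻¹ * x⁻¹) := by group
              rw [e]
              exact A.mul_mem ha h3
            have hAp : IsPGroup p A := IsPGroup.of_card (n := 2) ctx.cardA
            have hcop' : (Nat.card P').Coprime (Nat.card A) :=
              IsPGroup.coprime_card_of_ne q p hqp P' A ctx'.pgroup hAp
            have hbot := Subgroup.inf_eq_bot_of_coprime hcop'
            have hmem : a * x * a⁻¹ * x⁻¹ ∈ P' ⊓ A := ⟨h1, h2'⟩
            rw [hbot, Subgroup.mem_bot] at hmem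
            calc a * x = (a * x * a⁻¹ * x⁻¹) * (x * a) := by group
              _ = x * a := by rw [hmem, one_mul]
      obtain ⟨D, hDP, hED, hexp, hDreg⟩ :=
        hA9 hG M hM E hE h hcop p A P ctx hnP hcP hder hnt hglob
      exact ⟨P, D, ctx.P_le, ctx.pgroup, ctx.comm, hpel p A P ctx hnP, hDP, hED, hexp, hDreg⟩
    refine ⟨hAsmA E (Reg M) (tau2 M) ?_ ?_, hAsmB E (Reg M) (tau2 M) ?_ ?_ stage2⟩
    · exact fun e he _ hs p hp hpe => hsing e he hs p hp hpe
    · intro p hp hpp hpE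
      obtain ⟨P, D, h1, h2, h3, h4, -⟩ := stage2 p hp hpp hpE
      exact ⟨P, h1, h2, h3, h4⟩
    · exact fun e he k hs _ => not_reg_pow M e k hs
    · exact fun e he _ hs p hp hpe => hsing e he hs p hp hpe

end Cfsg.Agent.Lib.Helper70.BG21
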