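import Mathlib
import Cfsg.Agent.Lib.Helper70.BG.S1421Main
import Cfsg.Agent.Lib.Helper70.BG.S1421Glob
import Cfsg.Agent.Lib.Helper1.BG.S1421A5
import Cfsg.Agent.Lib.Helper1.BG.S1421A7
import Cfsg.Agent.Lib.Helper1.BG.S1421N3
import Cfsg.Agent.Lib.Helper3.BG.S1421A9
import Cfsg.Agent.Lib.Helper94.BG.S1421F
import Cfsg.Agent.Lib.Helper94.BG.S1421C
import Cfsg.Agent.Lib.Helper85.BG.S1421D
import Cfsg.Agent.Lib.Helper85.BG.S1421T
import Cfsg.Agent.Lib.Helper37.BG.S1421Nfin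
import Cfsg.Agent.Lib.Helper29.BG.S1421AsmB

/-!
# S1421 (BG 12.12): closed core, depending only on earlier frozen statements

Packages: `LemA5`, `LemA7`, `LemN3` (helper1), `LemA9` (helper3), `LemF`, `LemC` (helper94),
`LemD`, `LemOmega`, `LemT` (helper85), `LemNfin` (helper37), `LemAsmA`, `LemAsmB` (helper29),
`LemGlob` + glue + core (helper70).
-/

set_option autoImplicit false

namespace Cfsg.Agent.Lib.Helper70.BG21

open Cfsg

universe u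

/-- **S1421 (Bender–Glauberman Lemma 12.12)** from the earlier statements S1350, S1403, S1404,
S1408, S1409, S1410, S1412, S1414, S1416, S1417, S1418, S1419 (for the same `G`). -/
theorem s1421_closed {G : Type u} [Group G] [Finite G] (hG : Cfsg.IsMinSimpleOddOrder G)
    (h1350 : type_of% (@Cfsg.CfsgFrozen.S1350 G _ _ hG))
    (h1403 : type_of% (@Cfsg.CfsgFrozen.S1403 G _ _ hG))
    (h1404 : type_of% (@Cfsg.CfsgFrozen.S1404 G _ _ hG))
    (h1408 : type_of% (@Cfsg.CfsgFrozen.S1408 G _ _ hG))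
    (h1409 : type_of% (@Cfsg.CfsgFrozen.S1409 G _ _ hG))
    (h1410 : type_of% (@Cfsg.CfsgFrozen.S1410 G _ _ hG))
    (h1412 : type_of% (@Cfsg.CfsgFrozen.S1412 G _ _ hG))
    (h1414 : type_of% (@Cfsg.CfsgFrozen.S1414 G _ _ hG))
    (h1416 : type_of% (@Cfsg.CfsgFrozen.S1416 G _ _ hG))
    (h1417 : type_of% (@Cfsg.CfsgFrozen.S1417 G _ _ hG))
    (h1418 : type_of% (@Cfsg.CfsgFrozen.S1418 G _ _ hG))
    (h1419 : type_of% (@Cfsg.CfsgFrozen.S1419 G _ _ hG)) :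
    type_of% (@Cfsg.CfsgFrozen.S1421 G _ _ hG) :=
  s1421_core Cfsg.Agent.Lib.Helper1.BG.lemA5
    (Cfsg.Agent.Lib.Helper1.BG.lemA7 Cfsg.Agent.Lib.Helper85.BG.lemOmega)
    lemGlob
    (Cfsg.Agent.Lib.Helper3.BG.lemA9 Cfsg.Agent.Lib.Helper94.BG.lemF
      Cfsg.Agent.Lib.Helper94.BG.lemC Cfsg.Agent.Lib.Helper85.BG.lemD)
    Cfsg.Agent.Lib.Helper1.BG.lemN3
    (Cfsg.Agent.Lib.Helper37.BG.lemNfin Cfsg.Agent.Lib.Helper85.BG.lemT)
    Cfsg.Agent.Lib.Helper29.BG.lemAsmA Cfsg.Agent.Lib.Helper29.BG.lemAsmB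
    hG h1350 h1403 h1404 h1408 h1409 h1410 h1412 h1414 h1416 h1417 h1418 h1419

end Cfsg.Agent.Lib.Helper70.BG21
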